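import Cfsg.Agent.Lib.Char.Brauer
import Cfsg.Agent.Lib.Char.Complete
import Mathlib.GroupTheory.Transfer
import Mathlib.GroupTheory.Nilpotent
import Mathlib.Data.Nat.ChineseRemainder

/-!
# Class functions of the `p`-part

For an abelian Sylow `p`-subgroup `P`, a function on `P` that respects conjugacy in `G` extends to a
class function of `G` depending only on the `p`-part. Brauer's characterisation makes it a
generalised character when the function on `P` is one, and the inner product of two extensions is a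
weighted sum over `P`.
-/

set_option autoImplicit false

open scoped ComplexConjugate Pointwise

namespace CfsgLib.PSection

universe u

variable {G : Type u} [Group G] [Finite G] {p : ℕ} [Fact p.Prime] {P : Sylow p G} {k : ℕ}

/-- The exponent `k` extracts the `p`-part. -/
structure Expo (P : Sylow p G) (k : ℕ) : Prop where
  modEq : k ≡ 1 [MOD Nat.card (P : Subgroup G)]
  dvd : (P : Subgroup G).index ∣ k

theorem exists_expo (P : Sylow p G) : ∃ k, Expo P k := by
  obtain ⟨k, h1, h2⟩ := Nat.chineseRemainder P.card_coprime_index 1 0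
  exact ⟨k, ⟨h1, Nat.modEq_zero_iff_dvd.1 h2⟩⟩

theorem pow_card_pow (hk : Expo P k) (g : G) : (g ^ k) ^ Nat.card (P : Subgroup G) = 1 := by
  obtain ⟨c, rfl⟩ := hk.dvd
  rw [← pow_mul, show (P : Subgroup G).index * c * Nat.card (P : Subgroup G) =
    Nat.card (P : Subgroup G) * (P : Subgroup G).index * c by ring,
    Subgroup.card_mul_index, pow_mul, pow_card_eq_one', one_pow]

theorem pow_eq_self (hk : Expo P k) {w : G} (hw : w ^ Nat.card (P : Subgroup G) = 1) :
    w ^ k = w := by
  conv_rhs => rw [← pow_one w]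
  exact pow_eq_pow_iff_modEq.2 (hk.modEq.of_dvd (orderOf_dvd_of_pow_eq_one hw))

theorem orderOf_dvd_index {c : G} (hc : ¬ p ∣ orderOf c) :
    orderOf c ∣ (P : Subgroup G).index := by
  obtain ⟨n, hn⟩ := P.isPGroup'.exists_card_eq
  refine Nat.Coprime.dvd_of_dvd_mul_left (m := Nat.card (P : Subgroup G)) ?_ ?_
  · rw [hn]
    exact (((Fact.out : p.Prime).coprime_iff_not_dvd.2 hc).symm).pow_right n
  · rw [Subgroup.card_mul_index]
    exact orderOf_dvd_natCard c

theorem pow_eq_one_of_regular (hk : Expo P k) {c : G} (hc : ¬ p ∣ orderOf c) : c ^ k = 1 :=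
  orderOf_dvd_iff_pow_eq_one.1 ((orderOf_dvd_index hc).trans hk.dvd)

theorem regular_inv_mul (hk : Expo P k) (g : G) : ¬ p ∣ orderOf ((g ^ k)⁻¹ * g) := by
  intro hp
  have hidx : ¬ p ∣ (P : Subgroup G).index := P.not_dvd_index
  refine hidx (hp.trans (orderOf_dvd_of_pow_eq_one ?_))
  have hc : Commute (g ^ k)⁻¹ g := ((Commute.refl g).pow_left k).inv_left
  rw [hc.mul_pow, inv_pow, inv_mul_eq_one, ← pow_mul]
  refine pow_eq_pow_iff_modEq.2 (Nat.ModEq.of_dvd (orderOf_dvd_natCard g) ?_)
  rw [← Subgroup.card_mul_index (P : Subgroup G)]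
  have h2 := hk.modEq.mul_right' (c := (P : Subgroup G).index)
  rwa [one_mul] at h2

theorem pow_card_of_mem {w : G} (hw : w ∈ (P : Subgroup G)) :
    w ^ Nat.card (P : Subgroup G) = 1 := by
  have := pow_card_eq_one' (x := (⟨w, hw⟩ : (P : Subgroup G)))
  exact (SubgroupClass.coe_pow _ _).symm.trans (congrArg Subtype.val this)

theorem exists_conj_mem {w : G} (hw : w ^ Nat.card (P : Subgroup G) = 1) :
    ∃ u : (P : Subgroup G), IsConj w (u : G) := by
  obtain ⟨n, hn⟩ := P.isPGroup'.exists_card_eq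
  have hpg : IsPGroup p (Subgroup.zpowers w) := by
    rw [hn] at hw
    obtain ⟨j, -, hj⟩ := (Nat.dvd_prime_pow (Fact.out : p.Prime)).1 (orderOf_dvd_of_pow_eq_one hw)
    exact IsPGroup.of_card (n := j) (by rw [Nat.card_zpowers, hj])
  obtain ⟨Q, hQ⟩ := hpg.exists_le_sylow
  obtain ⟨g, rfl⟩ := MulAction.exists_smul_eq G P Q
  have hw2 : w ∈ MulAut.conj g • (P : Subgroup G) := by
    have := hQ (Subgroup.mem_zpowers w)
    rwa [Sylow.coe_subgroup_smul] at this
  rw [Subgroup.mem_pointwise_smul_iff_inv_smul_mem] at hw2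
  refine ⟨⟨_, hw2⟩, isConj_iff.2 ⟨g⁻¹, ?_⟩⟩
  simp [MulAut.smul_def]

/-- The number of elements of order prime to `p`. -/
noncomputable def regCard (p : ℕ) (H : Type u) [Group H] : ℕ :=
  Nat.card {c : H // ¬ p ∣ orderOf c}

/-- The number of members of `P` conjugate to `u`. -/
noncomputable def nP (P : Sylow p G) (u : G) : ℕ := Nat.card {v : (P : Subgroup G) // IsConj u v}

/-- The proportion of `p`-regular elements in the centralizer. -/
noncomputable def mu (p : ℕ) (u : G) : ℂ :=
  (regCard p ↥(Subgroup.centralizer ({u} : Set G)) : ℂ) /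
    (Nat.card ↥(Subgroup.centralizer ({u} : Set G)) : ℂ)

theorem centralizer_card_eq {u w : G} (h : IsConj u w) :
    Nat.card ↥(Subgroup.centralizer ({u} : Set G)) =
      Nat.card ↥(Subgroup.centralizer ({w} : Set G)) := by
  obtain ⟨g, rfl⟩ := isConj_iff.1 h
  refine Nat.card_congr ((MulAut.conj g).toEquiv.subtypeEquiv fun a => ?_)
  simp only [Subgroup.mem_centralizer_singleton_iff, MulEquiv.toEquiv_eq_coe,
    EquivLike.coe_coe, MulAut.conj_apply]
  rw [conj_mul, conj_mul, mul_left_inj, mul_right_inj]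

theorem card_fiber (hk : Expo P k) {w : G} (hw : w ^ Nat.card (P : Subgroup G) = 1) :
    Nat.card {g : G // g ^ k = w} = regCard p ↥(Subgroup.centralizer ({w} : Set G)) := by
  refine Nat.card_congr
    { toFun := fun g => ⟨⟨w⁻¹ * g.1, ?_⟩, ?_⟩
      invFun := fun c => ⟨w * c.1.1, ?_⟩
      left_inv := fun g => by simp
      right_inv := fun c => by simp }
  · rw [Subgroup.mem_centralizer_singleton_iff]
    have h : Commute (g.1 ^ k) g.1 := (Commute.refl g.1).pow_left k
    rw [g.2] at h
    rw [mul_assoc, ← h.eq, ← mul_assoc, ← mul_assoc, inv_mul_cancel, mul_inv_cancel]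
  · rw [← Subgroup.orderOf_coe]
    have := regular_inv_mul hk g.1
    rwa [g.2] at this
  · have h : Commute w (c.1 : G) := (Subgroup.mem_centralizer_singleton_iff.1 c.1.2).symm
    have hc : ¬ p ∣ orderOf (c.1 : G) := by rw [Subgroup.orderOf_coe]; exact c.2
    rw [h.mul_pow, pow_eq_self hk hw, pow_eq_one_of_regular hk hc, mul_one]

theorem regCard_centralizer_eq (hk : Expo P k) {u w : G}
    (hu : u ^ Nat.card (P : Subgroup G) = 1) (h : IsConj u w) :
    regCard p ↥(Subgroup.centralizer ({u} : Set G)) =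
      regCard p ↥(Subgroup.centralizer ({w} : Set G)) := by
  obtain ⟨g, rfl⟩ := isConj_iff.1 h
  have hw : (g * u * g⁻¹) ^ Nat.card (P : Subgroup G) = 1 := by rw [conj_pow, hu]; group
  rw [← card_fiber hk hu, ← card_fiber hk hw]
  refine Nat.card_congr ((MulAut.conj g).toEquiv.subtypeEquiv fun a => ?_)
  simp only [MulEquiv.toEquiv_eq_coe, EquivLike.coe_coe, MulAut.conj_apply, conj_pow,
    mul_left_inj, mul_right_inj]

/-- A sum of a class function of the `p`-part, as a sum over `P`. -/
theorem sum_pow_eq [Fintype G] [Fintype (P : Subgroup G)] (hk : Expo P k) {F : G → ℂ}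
    (hF : ∀ g h : G, IsConj g h → F g = F h) :
    ∑ g : G, F (g ^ k) =
      (Nat.card G : ℂ) * ∑ u : (P : Subgroup G), mu p (u : G) / (nP P (u : G) : ℂ) * F u := by
  classical
  set T := Finset.univ.filter fun w : G => w ^ Nat.card (P : Subgroup G) = 1 with hT
  set a : G → ℂ := fun w => (regCard p ↥(Subgroup.centralizer ({w} : Set G)) : ℂ) * F w with ha
  have h1 : ∑ g : G, F (g ^ k) = ∑ w ∈ T, a w := by
    rw [← Finset.sum_fiberwise_of_maps_to (g := fun g => g ^ k) (t := T)
      (fun g _ => Finset.mem_filter.2 ⟨Finset.mem_univ _, pow_card_pow hk g⟩)]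
    refine Finset.sum_congr rfl fun w hw => ?_
    rw [Finset.sum_congr rfl (fun g hg => by rw [(Finset.mem_filter.1 hg).2] :
      ∀ g ∈ Finset.univ.filter (fun g => g ^ k = w), F (g ^ k) = F w), Finset.sum_const,
      nsmul_eq_mul]
    simp only [a]
    rw [← card_fiber hk (Finset.mem_filter.1 hw).2, Nat.card_eq_fintype_card, Fintype.card_subtype]
  have h2 : ∀ w ∈ T, a w = ∑ u ∈ Finset.univ.filter (fun u : (P : Subgroup G) => IsConj (u : G) w),
      a u / (nP P (u : G) : ℂ) := by
    intro w hw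
    have hconst : ∀ u ∈ Finset.univ.filter (fun u : (P : Subgroup G) => IsConj (u : G) w),
        a u / (nP P (u : G) : ℂ) = a w / (nP P w : ℂ) := by
      intro u hu
      have huw := (Finset.mem_filter.1 hu).2
      rw [ha]
      simp only
      rw [regCard_centralizer_eq hk (pow_card_of_mem u.2) huw, hF _ _ huw,
        show nP P (u : G) = nP P w from Nat.card_congr (Equiv.subtypeEquivRight fun v =>
          ⟨fun e => huw.symm.trans e, fun e => huw.trans e⟩)]
    have hcard : (Finset.univ.filter (fun u : (P : Subgroup G) => IsConj (u : G) w)).card = nP P w := by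
      rw [nP, Nat.card_eq_fintype_card, Fintype.card_subtype]
      exact congrArg Finset.card (Finset.filter_congr fun u _ => ⟨IsConj.symm, IsConj.symm⟩)
    have hne : (nP P w : ℂ) ≠ 0 := by
      obtain ⟨u, hu⟩ := exists_conj_mem (Finset.mem_filter.1 hw).2
      haveI : Nonempty {v : (P : Subgroup G) // IsConj w v} := ⟨⟨u, hu⟩⟩
      exact Nat.cast_ne_zero.2 Nat.card_pos.ne'
    rw [Finset.sum_congr rfl hconst, Finset.sum_const, hcard, nsmul_eq_mul,
      mul_div_cancel₀ _ hne]
  rw [h1, Finset.sum_congr rfl h2, Finset.mul_sum]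
  simp only [Finset.sum_filter]
  rw [Finset.sum_comm]
  refine Finset.sum_congr rfl fun u _ => ?_
  rw [← Finset.sum_filter, Finset.sum_const, nsmul_eq_mul]
  have hcls : T.filter (fun w => IsConj (u : G) w) = Finset.univ.filter (fun w => IsConj (u : G) w) := by
    ext w
    simp only [hT, Finset.mem_filter, Finset.mem_univ, true_and, and_iff_right_iff_imp]
    intro h
    obtain ⟨g, rfl⟩ := isConj_iff.1 h
    rw [conj_pow, pow_card_of_mem u.2]
    group
  have hC : (Nat.card ↥(Subgroup.centralizer ({(u : G)} : Set G)) : ℂ) ≠ 0 :=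
    Nat.cast_ne_zero.2 Nat.card_pos.ne'
  rw [hcls, ← Fintype.card_subtype, ← Nat.card_eq_fintype_card,
    ← Char.card_isConj_mul_card_centralizer (u : G), ha, mu, Nat.cast_mul]
  field_simp

/-- With no fusion in `P` from `H`, the regular elements of `H` form a complement. -/
theorem regCard_mul_card (P : Sylow p G)
    (hP : ∀ n ∈ Subgroup.normalizer ((P : Subgroup G) : Set G), ∀ v ∈ (P : Subgroup G),
      n * v = v * n) :
    regCard p G * Nat.card (P : Subgroup G) = Nat.card G := by
  have hP' : Subgroup.normalizer ((P : Subgroup G) : Set G) ≤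
      Subgroup.centralizer ((P : Subgroup G) : Set G) := fun n hn =>
    Subgroup.mem_centralizer_iff.2 fun v hv => (hP n hn v hv).symm
  have hcomp := MonoidHom.ker_transferSylow_isComplement' P hP'
  rw [← hcomp.card_mul]
  refine congrArg (· * _) (Nat.card_congr (Equiv.subtypeEquivRight fun c => ⟨fun hc => ?_, fun hc => ?_⟩))
  · rw [MonoidHom.mem_ker]
    refine orderOf_eq_one_iff.1 ?_
    obtain ⟨j, hj⟩ := P.isPGroup' (MonoidHom.transferSylow P hP' c)
    have h1 : orderOf (MonoidHom.transferSylow P hP' c) ∣ p ^ j := orderOf_dvd_of_pow_eq_one hj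
    have h2 : orderOf (MonoidHom.transferSylow P hP' c) ∣ orderOf c := orderOf_map_dvd _ c
    exact Nat.eq_one_of_dvd_coprimes
      ((((Fact.out : p.Prime).coprime_iff_not_dvd.2 hc)).pow_left j) h1 h2
  · intro hd
    exact MonoidHom.not_dvd_card_ker_transferSylow P hP'
      (hd.trans (Subgroup.orderOf_dvd_natCard _ hc))

theorem mu_eq_inv_card (P : Sylow p G) {u : G} (hu : u ∈ (P : Subgroup G))
    [IsMulCommutative (P : Subgroup G)]
    (h : ∀ n ∈ Subgroup.normalizer ((P : Subgroup G) : Set G), n * u = u * n →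
      ∀ v ∈ (P : Subgroup G), n * v = v * n) :
    mu p u = ((Nat.card (P : Subgroup G) : ℂ))⁻¹ := by
  have hle : (P : Subgroup G) ≤ Subgroup.centralizer ({u} : Set G) := fun v hv =>
    Subgroup.mem_centralizer_singleton_iff.2
      (congrArg Subtype.val (mul_comm' (⟨v, hv⟩ : (P : Subgroup G)) ⟨u, hu⟩))
  set Q := P.subtype hle
  have hQ : regCard p ↥(Subgroup.centralizer ({u} : Set G)) * Nat.card ↥(Q : Subgroup ↥(Subgroup.centralizer ({u} : Set G))) =
      Nat.card ↥(Subgroup.centralizer ({u} : Set G)) := by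
    refine regCard_mul_card Q fun n hn v hv => Subtype.ext ?_
    have hn' : (n : G) ∈ Subgroup.normalizer ((P : Subgroup G) : Set G) := by
      rw [Subgroup.mem_normalizer_iff] at hn ⊢
      intro x
      constructor
      · intro hx
        exact (hn ⟨x, hle hx⟩).1 hx
      · intro hx
        have hxC : x ∈ Subgroup.centralizer ({u} : Set G) := by
          have h2 := hle hx
          simpa [mul_assoc] using
            mul_mem (mul_mem (inv_mem n.2) h2) n.2
        exact (hn ⟨x, hxC⟩).2 hx
    exact h n hn' (Subgroup.mem_centralizer_singleton_iff.1 n.2) v hv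
  have hQc : Nat.card ↥(Q : Subgroup ↥(Subgroup.centralizer ({u} : Set G))) = Nat.card (P : Subgroup G) :=
    Nat.card_congr (Subgroup.subgroupOfEquivOfLe hle).toEquiv
  rw [hQc] at hQ
  have h1 : (Nat.card (P : Subgroup G) : ℂ) ≠ 0 := Nat.cast_ne_zero.2 Nat.card_pos.ne'
  have h2 : (regCard p ↥(Subgroup.centralizer ({u} : Set G)) : ℂ) * (Nat.card (P : Subgroup G) : ℂ) =
      (Nat.card ↥(Subgroup.centralizer ({u} : Set G)) : ℂ) := by exact_mod_cast hQ
  have h3 : (Nat.card ↥(Subgroup.centralizer ({u} : Set G)) : ℂ) ≠ 0 :=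
    Nat.cast_ne_zero.2 Nat.card_pos.ne'
  rw [mu, ← h2]
  have h4 : (regCard p ↥(Subgroup.centralizer ({u} : Set G)) : ℂ) ≠ 0 := fun h0 => h3 (by rw [← h2, h0, zero_mul])
  field_simp

open Classical in
/-- The extension of a function on `P` by the `p`-part. -/
noncomputable def ext (P : Sylow p G) (k : ℕ) (φ : ↥(P : Subgroup G) → ℂ) (g : G) : ℂ :=
  if h : ∃ u : (P : Subgroup G), IsConj (g ^ k) u then φ h.choose else 0

/-- A function on `P` that is constant on the classes of `G`. -/
def Stable (P : Sylow p G) (φ : ↥(P : Subgroup G) → ℂ) : Prop :=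
  ∀ u v : (P : Subgroup G), IsConj (u : G) v → φ u = φ v

theorem ext_apply {φ : ↥(P : Subgroup G) → ℂ} (hφ : Stable P φ) {g : G} {u : (P : Subgroup G)}
    (hu : IsConj (g ^ k) (u : G)) : ext P k φ g = φ u := by
  classical
  have h : ∃ u : (P : Subgroup G), IsConj (g ^ k) u := ⟨u, hu⟩
  rw [ext, dif_pos h]
  exact hφ _ _ (h.choose_spec.symm.trans hu)

theorem ext_apply_mem (hk : Expo P k) {φ : ↥(P : Subgroup G) → ℂ} (hφ : Stable P φ)
    (u : (P : Subgroup G)) : ext P k φ u = φ u :=
  ext_apply hφ (by rw [pow_eq_self hk (pow_card_of_mem u.2)])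

theorem ext_one {φ : ↥(P : Subgroup G) → ℂ} (hφ : Stable P φ) : ext P k φ 1 = φ 1 :=
  ext_apply hφ (by rw [one_pow]; exact IsConj.refl _)

theorem ext_regular (hk : Expo P k) {φ : ↥(P : Subgroup G) → ℂ} (hφ : Stable P φ) {g : G}
    (hg : ¬ p ∣ orderOf g) : ext P k φ g = φ 1 :=
  ext_apply hφ (by rw [pow_eq_one_of_regular hk hg]; exact IsConj.refl _)

theorem isClassFunction_ext (hk : Expo P k) {φ : ↥(P : Subgroup G) → ℂ} (hφ : Stable P φ) :
    Cfsg.IsClassFunction G (ext P k φ) := by
  intro g h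
  obtain ⟨u, hu⟩ := exists_conj_mem (pow_card_pow hk g)
  rw [ext_apply hφ hu, ext_apply hφ (u := u)]
  rw [conj_pow]
  exact (isConj_iff.2 ⟨h, rfl⟩).symm.trans hu

theorem ext_mul (hk : Expo P k) {φ ψ : ↥(P : Subgroup G) → ℂ} (hφ : Stable P φ) (hψ : Stable P ψ)
    (g : G) : ext P k (fun u => φ u * ψ u) g = ext P k φ g * ext P k ψ g := by
  obtain ⟨u, hu⟩ := exists_conj_mem (pow_card_pow hk g)
  rw [ext_apply hφ hu, ext_apply hψ hu,
    ext_apply (fun a b hab => by simp only [hφ a b hab, hψ a b hab]) hu]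

/-- In a nilpotent subgroup taking the `p`-part is a homomorphism. -/
theorem mul_pow_expo (hk : Expo P k) (E : Subgroup G) [Group.IsNilpotent E] (a b : E) :
    (a * b) ^ k = a ^ k * b ^ k := by
  obtain ⟨e⟩ := (Group.isNilpotent_of_finite_tfae (G := E)).out 0 4 |>.1 ‹_›
  obtain ⟨x, rfl⟩ := e.surjective a
  obtain ⟨y, rfl⟩ := e.surjective b
  rw [← map_mul, ← map_pow, ← map_pow, ← map_pow, ← map_mul]
  congr 1
  funext q R
  simp only [Pi.pow_apply, Pi.mul_apply]
  have hq : (q : ℕ).Prime := Nat.prime_of_mem_primeFactors q.2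
  haveI := Fact.mk hq
  by_cases hqp : (q : ℕ) = p
  · have hz : ∀ z : (R : Subgroup E), z ^ k = z := by
      intro z
      apply Subtype.ext; apply Subtype.ext
      push_cast
      refine pow_eq_self hk ?_
      obtain ⟨j, hj⟩ := R.isPGroup' z
      obtain ⟨n, hn⟩ := P.isPGroup'.exists_card_eq
      have h1 : orderOf ((z : E) : G) ∣ p ^ j := by
        refine orderOf_dvd_of_pow_eq_one ?_
        rw [← hqp, ← SubgroupClass.coe_pow, ← SubgroupClass.coe_pow, hj]; rfl
      refine orderOf_dvd_iff_pow_eq_one.1 (Nat.Coprime.dvd_of_dvd_mul_right ?_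
        (Subgroup.card_mul_index (P : Subgroup G) ▸ orderOf_dvd_natCard ((z : E) : G)))
      exact Nat.Coprime.coprime_dvd_left h1
        (((Fact.out : p.Prime).coprime_iff_not_dvd.2 P.not_dvd_index).pow_left j)
    rw [hz, hz, hz]
  · have hz : ∀ z : (R : Subgroup E), z ^ k = 1 := by
      intro z
      apply Subtype.ext; apply Subtype.ext
      push_cast
      refine pow_eq_one_of_regular hk ?_
      intro hd
      obtain ⟨j, hj⟩ := R.isPGroup' z
      have h1 : orderOf ((z : E) : G) ∣ (q : ℕ) ^ j := by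
        refine orderOf_dvd_of_pow_eq_one ?_
        rw [← SubgroupClass.coe_pow, ← SubgroupClass.coe_pow, hj]; rfl
      exact hqp ((Nat.prime_dvd_prime_iff_eq Fact.out hq).1
        ((Fact.out : p.Prime).dvd_of_dvd_pow (hd.trans h1))).symm
    rw [hz, hz, hz, one_mul]

theorem isGeneralizedCharacter_ext [IsMulCommutative (P : Subgroup G)] (hk : Expo P k)
    {φ : ↥(P : Subgroup G) → ℂ} (hφ : Stable P φ)
    (hgen : Cfsg.IsGeneralizedCharacter (P : Subgroup G) φ) :
    Cfsg.IsGeneralizedCharacter G (ext P k φ) := by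
  haveI := Fintype.ofFinite G
  refine Char.isGeneralizedCharacter_of_elementary _ (isClassFunction_ext hk hφ)
    fun E r hr hE => ?_
  haveI := Char.isNilpotent_of_isElementary hr hE
  let π : E →* E :=
    { toFun := fun e => e ^ k
      map_one' := one_pow k
      map_mul' := mul_pow_expo hk E }
  have hpg : IsPGroup p (π.range.map E.subtype) := by
    rintro ⟨_, ⟨_, ⟨e, rfl⟩, rfl⟩⟩
    obtain ⟨n, hn⟩ := P.isPGroup'.exists_card_eq
    refine ⟨n, Subtype.ext ?_⟩
    have := pow_card_pow hk (e : G)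
    rw [hn] at this
    simpa [π] using this
  obtain ⟨Q, hQ⟩ := hpg.exists_le_sylow
  obtain ⟨g, rfl⟩ := MulAction.exists_smul_eq G P Q
  have hmem : ∀ e : E, g⁻¹ * (e : G) ^ k * g ∈ (P : Subgroup G) := by
    intro e
    have h1 : (e : G) ^ k ∈ MulAut.conj g • (P : Subgroup G) := by
      have := hQ ⟨π e, ⟨e, rfl⟩, rfl⟩
      rw [Sylow.coe_subgroup_smul] at this
      simpa [π] using this
    rw [Subgroup.mem_pointwise_smul_iff_inv_smul_mem] at h1
    rw [show g⁻¹ * (e : G) ^ k * g = (MulAut.conj g)⁻¹ • (e : G) ^ k from rfl]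
    exact h1
  let ψ : E →* (P : Subgroup G) :=
    { toFun := fun e => ⟨g⁻¹ * (e : G) ^ k * g, hmem e⟩
      map_one' := Subtype.ext (by simp)
      map_mul' := fun a b => Subtype.ext (by
        have := congrArg Subtype.val (mul_pow_expo hk E a b)
        push_cast at this
        push_cast
        rw [this]
        group) }
  have heq : (fun e : E => ext P k φ (e : G)) = φ ∘ ψ := by
    funext e
    exact ext_apply hφ (isConj_iff.2 ⟨g⁻¹, by simp [ψ]⟩)
  rw [heq]
  exact Char.IsGeneralizedCharacter.comp hgen ψ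

theorem classInner_ext [Fintype G] [Fintype (P : Subgroup G)] (hk : Expo P k)
    {φ ψ : ↥(P : Subgroup G) → ℂ} (hφ : Stable P φ) (hψ : Stable P ψ) :
    Cfsg.classInner (ext P k φ) (ext P k ψ) =
      ∑ u : (P : Subgroup G), mu p (u : G) / (nP P (u : G) : ℂ) * (φ u * conj (ψ u)) := by
  classical
  let F : G → ℂ := fun w => ext P k φ w * conj (ext P k ψ w)
  have hF : ∀ g h : G, IsConj g h → F g = F h := by
    intro g h hgh
    simp only [F]
    rw [Char.IsClassFunction.eq_of_isConj (isClassFunction_ext hk hφ) hgh,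
      Char.IsClassFunction.eq_of_isConj (isClassFunction_ext hk hψ) hgh]
  have h1 : ∀ g : G, F (g ^ k) = ext P k φ g * conj (ext P k ψ g) := by
    intro g
    obtain ⟨u, hu⟩ := exists_conj_mem (pow_card_pow hk g)
    have hu2 : IsConj ((g ^ k) ^ k) (u : G) := by rwa [pow_eq_self hk (pow_card_pow hk g)]
    simp only [F]
    rw [ext_apply hφ hu, ext_apply hψ hu, ext_apply hφ hu2, ext_apply hψ hu2]
  rw [Cfsg.classInner, ← Finset.sum_congr rfl (fun g _ => h1 g), sum_pow_eq hk hF,
    ← mul_assoc, inv_mul_cancel₀ (Nat.cast_ne_zero.2 Nat.card_pos.ne'), one_mul]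
  refine Finset.sum_congr rfl fun u _ => ?_
  simp only [F, ext_apply_mem hk hφ, ext_apply_mem hk hψ]

end CfsgLib.PSection
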