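import Cfsg.Agent.Lib.Char.Exceptional
import Cfsg.Agent.Lib.Char.Integral
import Cfsg.Agent.Lib.PrimeDegrees.Basic

/-!
# Integral decompositions of small norm
-/

set_option autoImplicit false

open scoped ComplexConjugate

namespace CfsgLib.PSection

universe u

/-! ### Integer vectors -/

section Vec

variable {ι : Type*} [Fintype ι] [DecidableEq ι]

/-- `c` is `1` at `o`, the signs `e`, `f` at `A`, `B` and zero elsewhere. -/
structure Pr (c : ι → ℤ) (o A B : ι) (e f : ℤ) : Prop where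
  hA : A ≠ o
  hB : B ≠ o
  hne : A ≠ B
  ho : c o = 1
  eA : c A = e
  eB : c B = f
  he : e = 1 ∨ e = -1
  hf : f = 1 ∨ f = -1
  rest : ∀ x, x ≠ o → x ≠ A → x ≠ B → c x = 0

variable {c d : ι → ℤ} {o A B A' B' : ι} {e f e' f' : ℤ}

omit [Fintype ι] [DecidableEq ι] in
theorem Pr.symm (h : Pr c o A B e f) : Pr c o B A f e :=
  ⟨h.hB, h.hA, h.hne.symm, h.ho, h.eB, h.eA, h.hf, h.he, fun x a b c => h.rest x a c b⟩

theorem Pr.dot {R : Type*} [CommRing R] (h : Pr c o A B e f) (d : ι → R) :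
    ∑ x, (c x : R) * d x = d o + (e : R) * d A + (f : R) * d B := by
  rw [← Finset.sum_subset (Finset.subset_univ ({o, A, B} : Finset ι)) (fun x _ hx => ?_)]
  · rw [Finset.sum_insert (by simp [h.hA.symm, h.hB.symm]), Finset.sum_pair h.hne, h.ho, h.eA,
      h.eB, Int.cast_one, one_mul, add_assoc]
  · simp only [Finset.mem_insert, Finset.mem_singleton, not_or] at hx
    rw [h.rest x hx.1 hx.2.1 hx.2.2, Int.cast_zero, zero_mul]

theorem Pr.dot_int (h : Pr c o A B e f) (d : ι → ℤ) :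
    ∑ x, c x * d x = d o + e * d A + f * d B := by
  simpa using h.dot d

theorem exists_pr (c : ι → ℤ) (o : ι) (ho : c o = 1) (h : ∑ x, c x * c x = 3) :
    ∃ A B e f, Pr c o A B e f := by
  have h2 : ∑ x ∈ Finset.univ.erase o, c x * c x = 2 := by
    rw [← Finset.add_sum_erase _ _ (Finset.mem_univ o), ho] at h
    linarith
  set S := (Finset.univ.erase o).filter fun x => c x ≠ 0 with hS
  have hS2 : ∑ x ∈ S, c x * c x = 2 := by
    rw [← h2]
    exact Finset.sum_filter_of_ne fun x _ hx h0 => hx (by rw [h0, mul_zero])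
  have hle : ∀ x ∈ S, 1 ≤ c x * c x := fun x hx => by
    have h0 := (Finset.mem_filter.mp hx).2
    rcases lt_or_gt_of_ne h0 with h | h <;> nlinarith
  have h1 : ∀ x ∈ S, c x = 1 ∨ c x = -1 := by
    intro x hx
    have := Finset.single_le_sum (f := fun x => c x * c x) (fun y hy => le_trans zero_le_one (hle y hy)) hx
    rw [hS2] at this
    have hb : -1 ≤ c x ∧ c x ≤ 1 := ⟨by nlinarith, by nlinarith⟩
    have h0 := (Finset.mem_filter.mp hx).2
    omega
  have hcard : S.card = 2 := by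
    have : ∑ x ∈ S, c x * c x = (S.card : ℤ) := by
      rw [Finset.card_eq_sum_ones, Nat.cast_sum]
      exact Finset.sum_congr rfl fun x hx => by rcases h1 x hx with h | h <;> simp [h]
    omega
  obtain ⟨A, B, hne, hAB⟩ := Finset.card_eq_two.mp hcard
  have hA : A ∈ S := by simp [hAB]
  have hB : B ∈ S := by simp [hAB]
  refine ⟨A, B, c A, c B, (Finset.mem_erase.mp (Finset.mem_filter.mp hA).1).1,
    (Finset.mem_erase.mp (Finset.mem_filter.mp hB).1).1, hne, ho, rfl, rfl, h1 A hA, h1 B hB, ?_⟩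
  intro x hxo hxA hxB
  by_contra hx
  have : x ∈ S := Finset.mem_filter.mpr ⟨Finset.mem_erase.mpr ⟨hxo, Finset.mem_univ _⟩, hx⟩
  simp [hAB, hxA, hxB] at this

omit [Fintype ι] [DecidableEq ι] in
theorem Pr.val (h : Pr c o A B e f) {x : ι} (hx : x ≠ o) :
    c x = 1 ∨ c x = 0 ∨ c x = -1 := by
  by_cases h1 : x = A
  · subst h1; rw [h.eA]; rcases h.he with h | h <;> simp [h]
  by_cases h2 : x = B
  · subst h2; rw [h.eB]; rcases h.hf with h | h <;> simp [h]
  exact Or.inr (Or.inl (h.rest x hx h1 h2))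

/-- Two such vectors with inner product two share exactly one place. -/
theorem Pr.hit (h : Pr c o A B e f) (h' : Pr d o A' B' e' f') (hd : ∑ x, c x * d x = 2) :
    (d A = e ∧ d B = 0) ∨ (d A = 0 ∧ d B = f) := by
  rw [h.dot_int, h'.ho] at hd
  rcases h.he with rfl | rfl <;> rcases h.hf with rfl | rfl <;>
    rcases h'.val h.hA with a | a | a <;> rcases h'.val h.hB with b | b | b <;> omega

/-- Two places of four such vectors do not split two to one. -/
theorem not_two_one {c₀ c₁ c₂ c₃ : ι → ℤ} {A₁ B₁ A₂ B₂ A₃ B₃ : ι} {e₁ f₁ e₂ f₂ e₃ f₃ : ℤ}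
    (h₀ : Pr c₀ o A B e f) (h₁ : Pr c₁ o A₁ B₁ e₁ f₁) (h₂ : Pr c₂ o A₂ B₂ e₂ f₂)
    (h₃ : Pr c₃ o A₃ B₃ e₃ f₃) (d12 : ∑ x, c₁ x * c₂ x = 2) (d13 : ∑ x, c₁ x * c₃ x = 2)
    (d23 : ∑ x, c₂ x * c₃ x = 2) (a₁ : c₁ A = e) (b₁ : c₁ B = 0) (a₂ : c₂ A = e) (b₂ : c₂ B = 0)
    (a₃ : c₃ A = 0) (b₃ : c₃ B = f) : False := by
  have he : e ≠ 0 := by rcases h₀.he with h | h <;> simp [h]
  have hf : f ≠ 0 := by rcases h₀.hf with h | h <;> simp [h]
  -- normalise `c₁` to start at `A`, `c₃` at `B`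
  wlog hA1 : A₁ = A generalizing A₁ B₁ e₁ f₁
  · refine this h₁.symm ?_
    by_contra hB1
    exact he (a₁ ▸ h₁.rest A h₀.hA (Ne.symm hA1) (Ne.symm hB1))
  wlog hA3 : A₃ = B generalizing A₃ B₃ e₃ f₃
  · refine this h₃.symm ?_
    by_contra hB3
    exact hf (b₃ ▸ h₃.rest B h₀.hB (Ne.symm hA3) (Ne.symm hB3))
  subst hA1; subst hA3
  rw [h₃.eA] at b₃
  rw [h₁.eA] at a₁
  subst b₃; subst a₁
  -- the other places of `c₁` and `c₃` agree
  have e13 := h₁.dot_int c₃
  rw [d13, h₃.ho, a₃, mul_zero, add_zero] at e13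
  have e23 := h₃.dot_int c₂
  rw [show ∑ x, c₃ x * c₂ x = ∑ x, c₂ x * c₃ x from Finset.sum_congr rfl fun x _ => mul_comm _ _,
    d23, h₂.ho, b₂, mul_zero, add_zero] at e23
  have hB13 : B₁ = B₃ := by
    by_contra hne
    by_cases hB : B₁ = A₃
    · exact h₁.hf.elim (fun h => by rw [← hB, h₁.eB, h] at b₁; omega)
        (fun h => by rw [← hB, h₁.eB, h] at b₁; omega)
    · rw [h₃.rest B₁ h₁.hB hB hne, mul_zero] at e13
      omega
  subst hB13
  rw [h₃.eB] at e13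
  have e12 := h₁.dot_int c₂
  rw [d12, h₂.ho, a₂] at e12
  rcases h₁.he with rfl | rfl <;> rcases h₁.hf with rfl | rfl <;> rcases h₃.hf with rfl | rfl <;>
    omega

/-- With four such vectors neither of the first two places carries a multiple of three. -/
theorem four_vectors {c : Fin 4 → ι → ℤ} (h : ∀ i, ∃ A B e f, Pr (c i) o A B e f)
    (hdot : ∀ i j, i ≠ j → ∑ x, c i x * c j x = 2) (h0 : Pr (c 0) o A B e f) :
    ¬ (3 : ℤ) ∣ ∑ i, c i A ∧ ¬ (3 : ℤ) ∣ ∑ i, c i B := by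
  obtain ⟨A₁, B₁, e₁, f₁, h₁⟩ := h 1
  obtain ⟨A₂, B₂, e₂, f₂, h₂⟩ := h 2
  obtain ⟨A₃, B₃, e₃, f₃, h₃⟩ := h 3
  have k₁ := h0.hit h₁ (hdot 0 1 (by decide))
  have k₂ := h0.hit h₂ (hdot 0 2 (by decide))
  have k₃ := h0.hit h₃ (hdot 0 3 (by decide))
  have d12 := hdot 1 2 (by decide)
  have d13 := hdot 1 3 (by decide)
  have d23 := hdot 2 3 (by decide)
  have d21 := hdot 2 1 (by decide)
  have d31 := hdot 3 1 (by decide)
  have d32 := hdot 3 2 (by decide)
  rw [Fin.sum_univ_four, Fin.sum_univ_four, h0.eA, h0.eB]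
  rcases k₁ with ⟨a₁, b₁⟩ | ⟨a₁, b₁⟩ <;> rcases k₂ with ⟨a₂, b₂⟩ | ⟨a₂, b₂⟩ <;>
    rcases k₃ with ⟨a₃, b₃⟩ | ⟨a₃, b₃⟩ <;>
    first
    | exact (not_two_one h0 h₁ h₂ h₃ d12 d13 d23 a₁ b₁ a₂ b₂ a₃ b₃).elim
    | exact (not_two_one h0 h₁ h₃ h₂ d13 d12 d32 a₁ b₁ a₃ b₃ a₂ b₂).elim
    | exact (not_two_one h0 h₂ h₃ h₁ d23 d21 d31 a₂ b₂ a₃ b₃ a₁ b₁).elim
    | exact (not_two_one h0.symm h₁ h₂ h₃ d12 d13 d23 b₁ a₁ b₂ a₂ b₃ a₃).elim
    | exact (not_two_one h0.symm h₁ h₃ h₂ d13 d12 d32 b₁ a₁ b₃ a₃ b₂ a₂).elim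
    | exact (not_two_one h0.symm h₂ h₃ h₁ d23 d21 d31 b₂ a₂ b₃ a₃ b₁ a₁).elim
    | (rw [a₁, b₁, a₂, b₂, a₃, b₃]
       rcases h0.he with rfl | rfl <;> rcases h0.hf with rfl | rfl <;> decide)

/-- A norm nine vector against two disjoint pairs. -/
theorem nine_vector {γ α β : ι → ℤ} {C D : ι} {g h : ℤ} (hα : Pr α o A B e f)
    (hβ : Pr β o C D g h) (hab : ∑ x, α x * β x = 1) (hγo : γ o = 1)
    (hγ : ∑ x, γ x * γ x = 9) (hga : ∑ x, α x * γ x = 3) (hgb : ∑ x, β x * γ x = 3)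
    (deg : ι → ℤ) (hdo : deg o = 1) (hdeg : ∀ x, 0 < deg x) (dα : ∑ x, α x * deg x = 0)
    (dβ : ∑ x, β x * deg x = 0) (dγ : ∑ x, γ x * deg x = 0) :
    (γ A = e ∧ γ B = f) ∨ (γ C = g ∧ γ D = h) := by
  have hdisj : β A = 0 ∧ β B = 0 := by
    rw [hα.dot_int, hβ.ho] at hab
    have e1 := hα.dot_int deg
    rw [dα, hdo] at e1
    by_contra hne
    have hA0 : β A ≠ 0 ∧ β B ≠ 0 := by
      rcases hα.he with rfl | rfl <;> rcases hα.hf with rfl | rfl <;> omega
    have hA : A = C ∨ A = D := by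
      by_contra hh
      exact hA0.1 (hβ.rest A hα.hA (fun h => hh (Or.inl h)) (fun h => hh (Or.inr h)))
    have hB : B = C ∨ B = D := by
      by_contra hh
      exact hA0.2 (hβ.rest B hα.hB (fun h => hh (Or.inl h)) (fun h => hh (Or.inr h)))
    have e2 := hβ.dot_int deg
    rw [dβ, hdo] at e2
    have pA := hdeg A
    have pB := hdeg B
    rcases hA with rfl | rfl <;> rcases hB with rfl | rfl
    · exact hα.hne rfl
    · rw [hβ.eA, hβ.eB] at hab
      rcases hα.he with rfl | rfl <;> rcases hα.hf with rfl | rfl <;>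
        rcases hβ.he with rfl | rfl <;> rcases hβ.hf with rfl | rfl <;> omega
    · rw [hβ.eA, hβ.eB] at hab
      rcases hα.he with rfl | rfl <;> rcases hα.hf with rfl | rfl <;>
        rcases hβ.he with rfl | rfl <;> rcases hβ.hf with rfl | rfl <;> omega
    · exact hα.hne rfl
  have hne : ∀ x, β x = 0 → C ≠ x ∧ D ≠ x := by
    intro x hx
    constructor <;> rintro rfl
    · rw [hβ.eA] at hx; rcases hβ.he with h | h <;> omega
    · rw [hβ.eB] at hx; rcases hβ.hf with h | h <;> omega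
  obtain ⟨hCA, hDA⟩ := hne A hdisj.1
  obtain ⟨hCB, hDB⟩ := hne B hdisj.2
  rw [hα.dot_int, hγo] at hga
  rw [hβ.dot_int, hγo] at hgb
  set s : Finset ι := {o, A, B, C, D} with hs
  have hsum : ∀ F : ι → ℤ, ∑ x ∈ s, F x = F o + (F A + (F B + (F C + F D))) := by
    intro F
    rw [hs, Finset.sum_insert (by simp [hα.hA.symm, hα.hB.symm, hβ.hA.symm, hβ.hB.symm]),
      Finset.sum_insert (by simp [hα.hne, hCA.symm, hDA.symm]),
      Finset.sum_insert (by simp [hCB.symm, hDB.symm]), Finset.sum_pair hβ.hne]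
  rw [← Finset.sum_add_sum_compl s, hsum] at hγ
  have hnn : ∀ x ∈ sᶜ, 0 ≤ γ x * γ x := fun x _ => mul_self_nonneg _
  have hc0 := Finset.sum_nonneg hnn
  rw [hγo] at hγ
  have hsq : ∀ x y : ℤ, x = 1 ∨ x = -1 → (x * y) * (x * y) = y * y := by
    rintro x y (rfl | rfl) <;> ring
  have q1 := hsq e (γ A) hα.he
  have q2 := hsq f (γ B) hα.hf
  have q3 := hsq g (γ C) hβ.he
  have q4 := hsq h (γ D) hβ.hf
  set u := e * γ A
  set v := f * γ B
  set w := g * γ C
  set z := h * γ D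
  have huv : v = 2 - u := by omega
  have hwz : z = 2 - w := by omega
  have hu : 0 ≤ u ∧ u ≤ 2 := ⟨by nlinarith [mul_self_nonneg (w - z)], by nlinarith [mul_self_nonneg (w - z)]⟩
  have hw : 0 ≤ w ∧ w ≤ 2 := ⟨by nlinarith [mul_self_nonneg (u - v)], by nlinarith [mul_self_nonneg (u - v)]⟩
  by_cases hu1 : u = 1
  · left
    have hv1 : v = 1 := by omega
    constructor
    · rcases hα.he with h | h <;> simp only [u, h] at hu1 ⊢ <;> omega
    · rcases hα.hf with h | h <;> simp only [v, h] at hv1 ⊢ <;> omega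
  by_cases hw1 : w = 1
  · right
    have hz1 : z = 1 := by omega
    constructor
    · rcases hβ.he with h | h <;> simp only [w, h] at hw1 ⊢ <;> omega
    · rcases hβ.hf with h | h <;> simp only [z, h] at hz1 ⊢ <;> omega
  exfalso
  have huu : u * u + v * v = 4 := by
    rcases (show u = 0 ∨ u = 2 by omega) with h | h <;> rw [huv, h] <;> norm_num
  have hww : w * w + z * z = 4 := by
    rcases (show w = 0 ∨ w = 2 by omega) with h | h <;> rw [hwz, h] <;> norm_num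
  have hz : ∑ x ∈ sᶜ, γ x * γ x = 0 := by omega
  have hzero : ∀ x ∈ sᶜ, γ x = 0 := fun x hx =>
    mul_self_eq_zero.mp ((Finset.sum_eq_zero_iff_of_nonneg hnn).mp hz x hx)
  rw [← Finset.sum_add_sum_compl s, hsum, hγo, hdo,
    Finset.sum_eq_zero (s := sᶜ) (fun x hx => by rw [hzero x hx, zero_mul])] at dγ
  have heven : ∀ (σ x : ℤ), σ = 1 ∨ σ = -1 → σ * x = 0 ∨ σ * x = 2 → (2 : ℤ) ∣ x := by
    rintro σ x (rfl | rfl) h <;> omega
  obtain ⟨a', ha'⟩ := heven e (γ A) hα.he (by omega)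
  obtain ⟨b', hb'⟩ := heven f (γ B) hα.hf (by omega)
  obtain ⟨c', hc'⟩ := heven g (γ C) hβ.he (by omega)
  obtain ⟨d', hd'⟩ := heven h (γ D) hβ.hf (by omega)
  rw [ha', hb', hc', hd', mul_assoc, mul_assoc, mul_assoc, mul_assoc] at dγ
  omega

end Vec

/-! ### Generalised characters -/

variable {G : Type u} [Group G] [Fintype G]

open Classical in
/-- The integral coefficient of `χ` in `θ`. -/
noncomputable def coef (θ : G → ℂ) (χ : Cfsg.IrrCharacter G) : ℤ :=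
  if h : ∃ z : ℤ, Cfsg.classInner θ χ = z then h.choose else 0

variable {θ η : G → ℂ}

theorem classInner_eq_coef (hθ : Cfsg.IsGeneralizedCharacter G θ) (χ : Cfsg.IrrCharacter G) :
    Cfsg.classInner θ χ = (coef θ χ : ℂ) := by
  have h := CharExc.exists_int_classInner hθ χ.2
  rw [coef, dif_pos h]
  exact h.choose_spec

theorem apply_eq_sum_coef (hθ : Cfsg.IsGeneralizedCharacter G θ) (g : G) :
    θ g = ∑ χ : Cfsg.IrrCharacter G, (coef θ χ : ℂ) * (χ : G → ℂ) g := by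
  conv_lhs => rw [Char.IsClassFunction.eq_sum_classInner (Char.IsGeneralizedCharacter.isClassFunction hθ)]
  simp only [Finset.sum_apply, Pi.smul_apply, smul_eq_mul, classInner_eq_coef hθ]

theorem classInner_eq_sum_coef (hθ : Cfsg.IsGeneralizedCharacter G θ)
    (hη : Cfsg.IsGeneralizedCharacter G η) :
    Cfsg.classInner θ η = ((∑ χ : Cfsg.IrrCharacter G, coef θ χ * coef η χ : ℤ) : ℂ) := by
  rw [Char.classInner_eq_sum (Char.IsGeneralizedCharacter.isClassFunction hθ)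
    (Char.IsGeneralizedCharacter.isClassFunction hη)]
  simp only [classInner_eq_coef hθ, classInner_eq_coef hη, map_intCast]
  push_cast
  rfl

theorem sum_coef_mul (hθ : Cfsg.IsGeneralizedCharacter G θ)
    (hη : Cfsg.IsGeneralizedCharacter G η) {n : ℤ} (h : Cfsg.classInner θ η = n) :
    ∑ χ : Cfsg.IrrCharacter G, coef θ χ * coef η χ = n := by
  rw [classInner_eq_sum_coef hθ hη] at h
  exact_mod_cast h

theorem sum_coef_mul_degree (hθ : Cfsg.IsGeneralizedCharacter G θ) (h1 : θ 1 = 0) :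
    ∑ χ : Cfsg.IrrCharacter G, coef θ χ * (Cfsg.charDegree (χ : G → ℂ) : ℤ) = 0 := by
  have h := apply_eq_sum_coef hθ 1
  rw [h1] at h
  simp only [Blk83.one_eq] at h
  exact_mod_cast h.symm

theorem exists_pr_coef [DecidableEq (Cfsg.IrrCharacter G)] (hθ : Cfsg.IsGeneralizedCharacter G θ)
    (h3 : Cfsg.classInner θ θ = 3) (h1 : Cfsg.classInner θ (fun _ => (1 : ℂ)) = 1) :
    ∃ A B e f, Pr (coef θ) Char.principalIrr A B e f := by
  refine exists_pr _ _ ?_ (sum_coef_mul hθ hθ (n := 3) (by simpa using h3))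
  have := classInner_eq_coef hθ Char.principalIrr
  rw [show ((Char.principalIrr : Cfsg.IrrCharacter G) : G → ℂ) = fun _ => (1 : ℂ) from
    funext Char.principalIrr_apply, h1] at this
  exact_mod_cast this.symm

theorem Pr.apply_eq [DecidableEq (Cfsg.IrrCharacter G)] {A B : Cfsg.IrrCharacter G} {e f : ℤ}
    (hθ : Cfsg.IsGeneralizedCharacter G θ) (h : Pr (coef θ) Char.principalIrr A B e f) (g : G) :
    θ g = 1 + (e : ℂ) * (A : G → ℂ) g + (f : ℂ) * (B : G → ℂ) g := by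
  rw [apply_eq_sum_coef hθ g, h.dot (fun χ : Cfsg.IrrCharacter G => (χ : G → ℂ) g),
    Char.principalIrr_apply]

/-- The coefficient of a multiple of a class-invariant indicator bounds the degree. -/
theorem degree_dvd_coef_mul {X : G → Prop} [DecidablePred X]
    (hX : ∀ g h : G, X (h * g * h⁻¹) ↔ X g) {n m : ℕ} (hn : n ≠ 0) (hG : Nat.card G = n * m)
    (hθ : Cfsg.IsGeneralizedCharacter G θ) (hθX : ∀ g, θ g = if X g then (n : ℂ) else 0)
    (χ : Cfsg.IrrCharacter G) :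
    (Cfsg.charDegree (χ : G → ℂ) : ℤ) ∣ coef θ χ * m := by
  obtain ⟨k, ρ, hρ, hχ⟩ := χ.2
  have hi := Char.isIntegral_central_sum ρ (fun g => if X g then (1 : ℂ) else 0)
    (fun g h => if_congr (hX g h) rfl rfl) (fun g => by
      split_ifs
      · exact isIntegral_one
      · exact isIntegral_zero)
  set d := Cfsg.charDegree (χ : G → ℂ) with hd
  have hdim : ((Module.finrank ℂ (Fin k → ℂ) : ℕ) : ℂ) = (d : ℂ) := by
    rw [hd, ← Blk83.one_eq χ, ← hχ, Representation.char_one]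
  rw [hdim, hχ] at hi
  set T : ℂ := ∑ g, (if X g then (1 : ℂ) else 0) * (χ : G → ℂ) g with hT
  have hsum : (n : ℂ) * conj T = (coef θ χ : ℂ) * (Nat.card G : ℂ) := by
    rw [← classInner_eq_coef hθ χ, Cfsg.classInner, mul_comm _ (Nat.card G : ℂ), ← mul_assoc,
      mul_inv_cancel₀ (Nat.cast_ne_zero.2 Nat.card_pos.ne'), one_mul, hT, map_sum, Finset.mul_sum]
    refine Finset.sum_congr rfl fun g _ => ?_
    rw [hθX g]
    split_ifs <;> simp
  have hT2 : conj T = ((coef θ χ * m : ℤ) : ℂ) := by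
    rw [hG] at hsum
    push_cast at hsum ⊢
    exact mul_left_cancel₀ (Nat.cast_ne_zero.2 hn) (by rw [hsum]; ring)
  have hT3 : T = ((coef θ χ * m : ℤ) : ℂ) := by
    have := congrArg conj hT2
    rwa [Complex.conj_conj, map_intCast] at this
  rw [hT3] at hi
  have hd0 : (d : ℂ) ≠ 0 := Nat.cast_ne_zero.2 (Blk83.deg_pos χ).ne'
  obtain ⟨z, hz⟩ := Char.exists_int_of_isIntegral_ratCast
    (q := ((coef θ χ * m : ℤ) : ℚ) / (d : ℚ)) (by push_cast at hi ⊢; exact hi)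
  refine ⟨z, ?_⟩
  rw [eq_div_iff (Nat.cast_ne_zero.2 (Blk83.deg_pos χ).ne')] at hz
  have : z * (d : ℤ) = coef θ χ * m := by exact_mod_cast hz
  rw [← this, mul_comm]

theorem not_dvd_degree {X : G → Prop} [DecidablePred X]
    (hX : ∀ g h : G, X (h * g * h⁻¹) ↔ X g) {p n m : ℕ} (hp : p.Prime) (hn : n ≠ 0)
    (hG : Nat.card G = n * m) (hm : ¬ p ∣ m)
    (hθ : Cfsg.IsGeneralizedCharacter G θ) (hθX : ∀ g, θ g = if X g then (n : ℂ) else 0)
    {χ : Cfsg.IrrCharacter G} (hc : ¬ (p : ℤ) ∣ coef θ χ) :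
    ¬ p ∣ Cfsg.charDegree (χ : G → ℂ) := by
  intro h
  rcases Int.Prime.dvd_mul' hp ((Int.natCast_dvd_natCast.2 h).trans
    (degree_dvd_coef_mul hX hn hG hθ hθX χ)) with h1 | h1
  · exact hc h1
  · exact hm (Int.natCast_dvd_natCast.1 h1)

end CfsgLib.PSection
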