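import Cfsg.Agent.Lib.PSection.SplitRel
import Cfsg.Agent.Lib.Char.GaloisConj
import Cfsg.Agent.Lib.PrimeDegrees.Basic
import Mathlib.RingTheory.RootsOfUnity.Complex

/-!
# Degrees four and five cannot satisfy the relation
-/

set_option autoImplicit false

open scoped ComplexConjugate IsMulCommutative

namespace CfsgLib.PSection

universe u

variable {G : Type u} [Group G] [Fintype G]

/-- A root of unity's multiplicity as an eigenvalue. -/
theorem exists_mult {χ : G → ℂ} (hχ : Cfsg.IsCharacter G χ) {n : ℕ} (hn : 0 < n) {w : G}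
    (hw : w ^ n = 1) {η : ℂ} (hη : η ^ n = 1) :
    ∃ m : ℕ, ∑ i ∈ Finset.range n, χ (w ^ i) * η ^ i = (n : ℂ) * m := by
  classical
  obtain ⟨d, ρ, rfl⟩ := hχ
  obtain ⟨μ, hμ, -, -, hpow⟩ := Char.exists_eigenvalues ρ w
  refine ⟨(Finset.univ.filter fun j => μ j * η = 1).card, ?_⟩
  simp only [hpow, Finset.sum_mul, ← mul_pow]
  rw [Finset.sum_comm, Finset.card_filter, Nat.cast_sum, Finset.mul_sum]
  refine Finset.sum_congr rfl fun j _ => ?_
  by_cases h : μ j * η = 1
  · simp [h]
  · have hj : μ j ^ n = 1 := by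
      obtain ⟨c, hc⟩ := orderOf_dvd_of_pow_eq_one hw
      rw [hc, pow_mul, hμ j, one_pow]
    rw [if_neg h, Nat.cast_zero, mul_zero, geom_sum_eq h, mul_pow, hj, hη, one_mul, sub_self,
      zero_div]

variable [IsSimpleGroup G] {P : Sylow 3 G} {k : ℕ} [IsMulCommutative (P : Subgroup G)]

theorem not_four_five [Fintype (P : Subgroup G)] (hna : Subgroup.center G = ⊥)
    (hcard : Nat.card (P : Subgroup G) = 9) (hk : Expo P k) (h11 : Nat.Coprime 11 (Nat.card G))
    {A B : Cfsg.IrrCharacter G} {e f : ℤ} (he : e = 1 ∨ e = -1) (hf : f = 1 ∨ f = -1)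
    (hA4 : Cfsg.charDegree (A : G → ℂ) = 4) (hB5 : Cfsg.charDegree (B : G → ℂ) = 5)
    {l : (P : Subgroup G) →* ℂˣ} (hl1 : l ≠ 1) (hl : ∀ u, l u ^ 3 = 1) (hst : Stable P (phi l))
    (hrel : ∀ g, ext P k (phi l) g = 1 + (e : ℂ) * (A : G → ℂ) g + (f : ℂ) * (B : G → ℂ) g) :
    False := by
  classical
  have hA : A ≠ Char.principalIrr := fun h => by
    have h1 := Blk83.one_eq A
    rw [hA4, h, Char.principalIrr_apply] at h1
    norm_num at h1
  have hsgn : e = 1 ∧ f = -1 := by
    have h1 := hrel 1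
    rw [ext_one hst, phi_one, Blk83.one_eq, Blk83.one_eq, hA4, hB5] at h1
    have : (0 : ℤ) = 1 + e * 4 + f * 5 := by exact_mod_cast h1
    omega
  obtain ⟨rfl, rfl⟩ := hsgn
  have hrel' : ∀ g, ext P k (phi l) g = 1 + (A : G → ℂ) g - (B : G → ℂ) g := fun g => by
    rw [hrel]; push_cast; ring
  -- the Galois conjugate is `A` itself
  have hgal : ∀ g, (A : G → ℂ) (g ^ 11) = (A : G → ℂ) g := by
    set A' := CharGalois.powIrr h11 A
    set B' := CharGalois.powIrr h11 B
    have hA'd : (A' : G → ℂ) 1 = 4 := by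
      rw [CharGalois.powIrr_apply, one_pow, Blk83.one_eq, hA4]; norm_num
    have hB'd : (B' : G → ℂ) 1 = 5 := by
      rw [CharGalois.powIrr_apply, one_pow, Blk83.one_eq, hB5]; norm_num
    have hrel2 : ∀ g, ext P k (phi l) g = 1 + (A' : G → ℂ) g - (B' : G → ℂ) g := fun g => by
      rw [CharGalois.powIrr_apply, CharGalois.powIrr_apply, ← hrel']
      obtain ⟨u, hu⟩ := exists_conj_mem (pow_card_pow hk g)
      have h' : IsConj ((g ^ 11) ^ k) ((u ^ 11 : (P : Subgroup G)) : G) := by
        obtain ⟨c, hc⟩ := isConj_iff.1 hu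
        refine isConj_iff.2 ⟨c, ?_⟩
        rw [← pow_mul, mul_comm, pow_mul, SubgroupClass.coe_pow, ← hc, conj_pow]
      rw [ext_apply hst hu, ext_apply hst h', phi_pow_eq hl u (by norm_num)]
    have key : Cfsg.classInner (ext P k (phi l)) A' = 1 := by
      rw [show ext P k (phi l) = ((Char.principalIrr : Cfsg.IrrCharacter G) : G → ℂ) + (A' : G → ℂ) - (B' : G → ℂ) from
        funext fun g => by simp [hrel2, Char.principalIrr_apply],
        Char.classInner_sub_left, Char.classInner_add_left, Char.classInner_irr_self A'.2,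
        Char.classInner_irr_of_ne Char.principalIrr.2 A'.2 (fun h => ?_),
        Char.classInner_irr_of_ne B'.2 A'.2 (fun h => ?_)]
      · norm_num
      · have := congrFun h 1; rw [hB'd, hA'd] at this; norm_num at this
      · have := congrFun h 1; rw [Char.principalIrr_apply, hA'd] at this; norm_num at this
    rw [show ext P k (phi l) = ((Char.principalIrr : Cfsg.IrrCharacter G) : G → ℂ) + (A : G → ℂ) - (B : G → ℂ) from
        funext fun g => by simp [hrel', Char.principalIrr_apply],
      Char.classInner_sub_left, Char.classInner_add_left,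
      Char.classInner_irr_of_ne Char.principalIrr.2 A'.2 (fun h => by
        have := congrFun h 1; rw [Char.principalIrr_apply, hA'd] at this; norm_num at this),
      Char.classInner_irr_of_ne B.2 A'.2 (fun h => by
        have := congrFun h 1; rw [Blk83.one_eq, hB5, hA'd] at this; norm_num at this),
      zero_add, sub_zero] at key
    intro g
    have hAA : (A : G → ℂ) = (A' : G → ℂ) := by
      by_contra hne
      rw [Char.classInner_irr_of_ne A.2 A'.2 hne] at key
      norm_num at key
    conv_rhs => rw [hAA, CharGalois.powIrr_apply]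
  -- values at elements of order three
  have h3 : ∀ w : G, w ^ 3 = 1 → w ≠ 1 → (A : G → ℂ) w = 1 ∨ (A : G → ℂ) w = -2 := by
    intro w hw hw1
    obtain ⟨m, hm⟩ := exists_mult (Char.IsIrrCharacter.isCharacter A.2) (by norm_num : 0 < 3) hw
      (one_pow 3)
    have h2 : (A : G → ℂ) (w ^ 2) = (A : G → ℂ) w := by
      rw [← pow_eq_pow_mod 11 hw |>.trans (by norm_num : w ^ (11 % 3) = w ^ 2), hgal]
    simp only [Finset.sum_range_succ, Finset.sum_range_zero, one_pow, mul_one, pow_zero, pow_one,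
      h2, Blk83.one_eq, hA4, zero_add] at hm
    push_cast at hm
    have hval : (A : G → ℂ) w = (((3 * (m : ℚ) - 4) / 2 : ℚ) : ℂ) := by
      push_cast; linear_combination (1 / 2 : ℂ) * hm
    obtain ⟨z, hz⟩ := Char.exists_int_of_isIntegral_ratCast (hval ▸
      Char.IsGeneralizedCharacter.isIntegral_apply (Char.IsIrrCharacter.isGeneralizedCharacter A.2) w)
    have hz' : 2 * z = 3 * (m : ℤ) - 4 := by
      have : (2 * z : ℚ) = 3 * (m : ℚ) - 4 := by rw [hz]; ring
      exact_mod_cast this
    have hzA : (A : G → ℂ) w = (z : ℂ) := by rw [hval, ← hz]; norm_num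
    have hne : ∀ c : ℤ, |c| = 4 → z ≠ c := by
      intro c hc hzc
      refine hw1 (PrimeDeg.eq_one_of_norm_eq hna hA ?_)
      rw [hzA, hA4, Complex.norm_intCast, hzc]
      exact_mod_cast hc
    have hb : |(z : ℝ)| ≤ 4 := by
      obtain ⟨d, ρ, hρ, hρA⟩ := A.2
      have := Char.norm_character_le ρ w
      have hd : (Module.finrank ℂ (Fin d → ℂ) : ℂ) = 4 := by
        rw [← Representation.char_one ρ, hρA, Blk83.one_eq, hA4]; norm_num
      rw [hρA, hzA, Complex.norm_intCast] at this
      rw [show (Module.finrank ℂ (Fin d → ℂ) : ℝ) = 4 by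
        have : Module.finrank ℂ (Fin d → ℂ) = 4 := by exact_mod_cast hd
        rw [this]; norm_num] at this
      exact this
    have hb' : |z| ≤ 4 := by exact_mod_cast hb
    have n1 := hne 4 (by norm_num)
    have n2 := hne (-4) (by norm_num)
    rw [abs_le] at hb'
    rcases (show z = 1 ∨ z = -2 by omega) with rfl | rfl
    · left; rw [hzA]; norm_num
    · right; rw [hzA]; norm_num
  -- no element of order nine
  have hcube : ∀ u : (P : Subgroup G), (u : G) ^ 3 = 1 := by
    intro u
    by_contra h9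
    set w := (u : G)
    have hw9 : w ^ 9 = 1 := by have := pow_card_of_mem (P := P) u.2; rwa [hcard] at this
    have h33 := h3 (w ^ 3) (by rw [← pow_mul]; exact hw9) h9
    set η := Complex.exp (2 * Real.pi * Complex.I / (9 : ℕ)) with hη
    have hp : IsPrimitiveRoot η 9 := Complex.isPrimitiveRoot_exp 9 (by norm_num)
    obtain ⟨m, hm⟩ := exists_mult (Char.IsIrrCharacter.isCharacter A.2) (by norm_num : 0 < 9) hw9
      hp.pow_eq_one
    have g2 : ∀ i : ℕ, (A : G → ℂ) (w ^ (11 * i % 9)) = (A : G → ℂ) (w ^ i) := fun i => by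
      rw [← pow_eq_pow_mod _ hw9, mul_comm, pow_mul, hgal]
    have e2 : (A : G → ℂ) (w ^ 2) = (A : G → ℂ) w := by simpa using g2 1
    have e4 : (A : G → ℂ) (w ^ 4) = (A : G → ℂ) w := by rw [← e2]; exact g2 2
    have e8 : (A : G → ℂ) (w ^ 8) = (A : G → ℂ) w := by rw [← e4]; exact g2 4
    have e7 : (A : G → ℂ) (w ^ 7) = (A : G → ℂ) w := by rw [← e8]; exact g2 8
    have e5 : (A : G → ℂ) (w ^ 5) = (A : G → ℂ) w := by rw [← e7]; exact g2 7
    have e6 : (A : G → ℂ) (w ^ 6) = (A : G → ℂ) (w ^ 3) := g2 3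
    simp only [Finset.sum_range_succ, Finset.sum_range_zero, pow_zero, mul_one, pow_one, zero_add,
      e2, e4, e5, e6, e7, e8, Blk83.one_eq, hA4] at hm
    have s9 : 1 + η + η ^ 2 + η ^ 3 + η ^ 4 + η ^ 5 + η ^ 6 + η ^ 7 + η ^ 8 = 0 := by
      have h0 := hp.geom_sum_eq_zero (by norm_num : 1 < 9)
      simp only [Finset.sum_range_succ, Finset.sum_range_zero, pow_zero, pow_one, zero_add] at h0
      exact h0
    have s3 : 1 + η ^ 3 + η ^ 6 = 0 := by
      have h0 := (hp.pow (by norm_num : 0 < 9) (by norm_num : 9 = 3 * 3)).geom_sum_eq_zero (by norm_num : 1 < 3)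
      simp only [Finset.sum_range_succ, Finset.sum_range_zero, pow_zero, pow_one, zero_add, ← pow_mul] at h0
      exact h0
    push_cast at hm
    have hmv : (9 : ℂ) * m = 4 - (A : G → ℂ) (w ^ 3) := by
      linear_combination -hm + ((A : G → ℂ) w) * s9 + ((A : G → ℂ) (w ^ 3) - (A : G → ℂ) w) * s3
    rcases h33 with h' | h' <;> rw [h'] at hmv
    · have : (9 : ℤ) * m = 3 := by exact_mod_cast (hmv.trans (by norm_num : (4 : ℂ) - 1 = 3))
      omega
    · have : (9 : ℤ) * m = 6 := by exact_mod_cast (hmv.trans (by norm_num : (4 : ℂ) - (-2) = 6))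
      omega
  -- multiplicities of the trivial character of `P`
  have hval : ∀ u : (P : Subgroup G), u ≠ 1 → (A : G → ℂ) u = 1 ∨ (A : G → ℂ) u = -2 := fun u hu =>
    h3 u (hcube u) (fun h => hu (Subtype.ext h))
  set X := Finset.univ.filter fun u : (P : Subgroup G) => u ≠ 1 ∧ (A : G → ℂ) u = -2 with hX
  have heven : 2 ∣ X.card := by
    have hinv : ∀ u : (P : Subgroup G), (A : G → ℂ) ((u⁻¹ : (P : Subgroup G)) : G) = (A : G → ℂ) u := by
      intro u
      have h2 : u⁻¹ = u ^ 2 := (eq_inv_of_mul_eq_one_left (by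
        rw [← pow_succ]; exact Subtype.ext (by simpa using hcube u))).symm
      have h3' : (u : G) ^ 11 = (u : G) ^ 2 := by rw [pow_eq_pow_mod 11 (hcube u)]
      rw [h2, SubgroupClass.coe_pow, ← h3', hgal]
    have h0 : ((X.card : ℕ) : ZMod 2) = 0 := by
      rw [Finset.card_eq_sum_ones, Nat.cast_sum]
      refine Finset.sum_involution (fun u _ => u⁻¹) (fun u _ => by decide) (fun u hu _ e => ?_)
        (fun u hu => ?_) (fun u _ => inv_inv u)
      · have hu1 := (Finset.mem_filter.1 hu).2.1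
        have h3' : u ^ 3 = 1 := Subtype.ext (by simpa using hcube u)
        rw [pow_succ, pow_two, show u * u = 1 from mul_eq_one_iff_eq_inv.2 e.symm, one_mul] at h3'
        exact hu1 h3'
      · have hu' := (Finset.mem_filter.1 hu).2
        exact Finset.mem_filter.2 ⟨Finset.mem_univ _, inv_ne_one.2 hu'.1, by rw [hinv]; exact hu'.2⟩
    exact (CharP.cast_eq_zero_iff (ZMod 2) 2 _).1 h0
  have hsum : ∑ u : (P : Subgroup G), (A : G → ℂ) u = 12 - 3 * (X.card : ℂ) := by
    have h1 : ∀ u : (P : Subgroup G), (A : G → ℂ) u =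
        (if u = 1 then 3 else 0) + 1 + (if u ≠ 1 ∧ (A : G → ℂ) u = -2 then -3 else 0) := by
      intro u
      by_cases hu : u = 1
      · subst hu; simp [Blk83.one_eq, hA4]; norm_num
      · rcases hval u hu with h | h <;> simp [hu, h] <;> norm_num
    rw [Finset.sum_congr rfl fun u _ => h1 u, Finset.sum_add_distrib, Finset.sum_add_distrib,
      Finset.sum_ite_eq', if_pos (Finset.mem_univ _), ← Finset.sum_filter, ← hX, Finset.sum_const,
      Finset.sum_const, Finset.card_univ, ← Nat.card_eq_fintype_card, hcard]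
    simp; ring
  have hnat : ∀ χ : Cfsg.IrrCharacter G, ∃ m : ℕ, ∑ u : (P : Subgroup G), (χ : G → ℂ) u = 9 * (m : ℂ) := by
    intro χ
    obtain ⟨m, hm⟩ := Char.IsCharacter.exists_nat_classInner
      (Char.IsCharacter.restrict (Char.IsIrrCharacter.isCharacter χ.2) (P : Subgroup G))
      (Char.principalIrr (G := (P : Subgroup G))).2
    simp only [Cfsg.classInner, Char.principalIrr_apply, map_one, mul_one, hcard] at hm
    exact ⟨m, by rw [← hm]; push_cast; ring⟩
  obtain ⟨a, ha⟩ := hnat A
  obtain ⟨b, hb⟩ := hnat B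
  have hle : X.card ≤ 8 := by
    refine (Finset.card_le_card (t := Finset.univ.erase 1) fun u hu =>
      Finset.mem_erase.2 ⟨(Finset.mem_filter.1 hu).2.1, Finset.mem_univ _⟩).trans ?_
    rw [Finset.card_erase_of_mem (Finset.mem_univ _), Finset.card_univ, ← Nat.card_eq_fintype_card, hcard]
  rw [hsum] at ha
  have ha' : (12 : ℤ) - 3 * X.card = 9 * a := by exact_mod_cast ha
  have hB : ∀ u : (P : Subgroup G), (B : G → ℂ) u = 1 + (A : G → ℂ) u - phi l u := fun u => by
    have := hrel' (u : G)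
    rw [ext_apply_mem hk hst] at this
    linear_combination this
  rw [Finset.sum_congr rfl fun u _ => hB u, Finset.sum_sub_distrib, Finset.sum_add_distrib, hsum,
    sum_phi l hl1, Finset.sum_const, Finset.card_univ, ← Nat.card_eq_fintype_card, hcard] at hb
  have hb' : (9 : ℤ) + (12 - 3 * X.card) - 18 = 9 * b := by
    have : (9 : ℂ) + (12 - 3 * (X.card : ℂ)) - 18 = 9 * (b : ℂ) := by rw [← hb]; push_cast; ring
    exact_mod_cast this
  omega

end CfsgLib.PSection
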