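import Cfsg.Agent.Lib.PSection.InvFusion
import Mathlib.GroupTheory.Transfer

/-!
# Fusion in an abelian Sylow subgroup of order nine of a simple group
-/

set_option autoImplicit false

open scoped IsMulCommutative

namespace CfsgLib.PSection

universe u

variable {G : Type u} [Group G] [Finite G] {p : ℕ} [Fact p.Prime] {P : Sylow p G}

theorem exists_normalizer_conj [IsMulCommutative (P : Subgroup G)] {u v : (P : Subgroup G)}
    (h : IsConj (u : G) v) :
    ∃ n ∈ Subgroup.normalizer ((P : Subgroup G) : Set G), n * (u : G) * n⁻¹ = v := by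
  obtain ⟨g, hg⟩ := isConj_iff.1 h
  obtain ⟨n, hn, he⟩ := P.conj_eq_normalizer_conj_of_mem (u : G) g⁻¹ u.2
    (by rw [inv_inv, hg]; exact v.2)
  refine ⟨n⁻¹, inv_mem hn, ?_⟩
  rw [inv_inv] at he ⊢
  rw [← he, hg]

/-- In a simple group no nontrivial element of `P` is central in the normaliser. -/
theorem eq_one_of_fixed [IsSimpleGroup G] (hG : ¬ IsMulCommutative G)
    [IsMulCommutative (P : Subgroup G)] (u : (P : Subgroup G))
    (h : ∀ n ∈ Subgroup.normalizer ((P : Subgroup G) : Set G), n * (u : G) = u * n) : u = 1 := by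
  have key : ∀ (k : ℕ) (g₀ : G), g₀⁻¹ * (u : G) ^ k * g₀ ∈ (P : Subgroup G) →
      g₀⁻¹ * (u : G) ^ k * g₀ = (u : G) ^ k := by
    intro k g₀ hk
    obtain ⟨n, hn, he⟩ := P.conj_eq_normalizer_conj_of_mem ((u : G) ^ k) g₀ (pow_mem u.2 k) hk
    rw [he]
    have hc : Commute n ((u : G) ^ k) := (show Commute n (u : G) from h n hn).pow_right k
    rw [mul_assoc, ← hc.eq, ← mul_assoc, inv_mul_cancel, one_mul]
  set T := MonoidHom.transfer (MonoidHom.id (P : Subgroup G)) with hT
  rcases (MonoidHom.normal_ker T).eq_bot_or_eq_top with hb | htop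
  · exfalso
    exact hG ⟨⟨fun a b => (MonoidHom.ker_eq_bot_iff T).1 hb (by rw [map_mul, map_mul, mul_comm])⟩⟩
  · have h1 : T (u : G) = 1 := MonoidHom.mem_ker.1 (htop ▸ Subgroup.mem_top _)
    rw [hT, MonoidHom.transfer_eq_pow _ _ key, MonoidHom.id_apply] at h1
    have h2 : orderOf u ∣ (P : Subgroup G).index :=
      orderOf_dvd_of_pow_eq_one (Subtype.ext (by simpa using congrArg Subtype.val h1))
    exact orderOf_eq_one_iff.1
      (Nat.eq_one_of_dvd_coprimes P.card_coprime_index (orderOf_dvd_natCard u) h2)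

theorem not_dvd_nP [IsMulCommutative (P : Subgroup G)] (u : (P : Subgroup G)) :
    ¬ p ∣ nP P (u : G) := by
  classical
  set N := Subgroup.normalizer ((P : Subgroup G) : Set G) with hN
  let f : N → {v : (P : Subgroup G) // IsConj (u : G) v} := fun n =>
    ⟨⟨(n : G) * u * (n : G)⁻¹, (Subgroup.mem_normalizer_iff.1 n.2 _).1 u.2⟩, isConj_iff.2 ⟨n, rfl⟩⟩
  set S := (Subgroup.centralizer ({(u : G)} : Set G)).subgroupOf N with hS
  have hcard : Nat.card N = nP P (u : G) * Nat.card S := by
    rw [nP, ← Nat.card_prod]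
    refine Nat.card_congr ((Equiv.sigmaFiberEquiv f).symm.trans ((Equiv.sigmaCongrRight fun v => ?_).trans
      (Equiv.sigmaEquivProd _ _)))
    let n₀ := (exists_normalizer_conj v.2).choose
    have hn₀ : n₀ ∈ N := (exists_normalizer_conj v.2).choose_spec.1
    have he : n₀ * (u : G) * n₀⁻¹ = ((v.1 : (P : Subgroup G)) : G) :=
      (exists_normalizer_conj v.2).choose_spec.2
    have he' : ∀ n : N, f n = v ↔ (n : G) * u * (n : G)⁻¹ = n₀ * u * n₀⁻¹ := by
      intro n
      rw [he]
      exact ⟨fun h => congrArg (fun w => ((w.1 : (P : Subgroup G)) : G)) h,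
        fun h => Subtype.ext (Subtype.ext h)⟩
    exact
      { toFun := fun n => ⟨⟨n₀⁻¹ * n.1.1, mul_mem (inv_mem hn₀) n.1.2⟩, by
          rw [hS, Subgroup.mem_subgroupOf, Subgroup.mem_centralizer_singleton_iff]
          have h := (he' n.1).1 n.2
          calc n₀⁻¹ * n.1.1 * (u : G) = n₀⁻¹ * ((n.1.1 * u * n.1.1⁻¹) * n.1.1) := by group
            _ = (u : G) * (n₀⁻¹ * n.1.1) := by rw [h]; group⟩
        invFun := fun s => ⟨⟨n₀ * s.1.1, mul_mem hn₀ s.1.2⟩, by
          refine (he' _).2 ?_
          have h := Subgroup.mem_centralizer_singleton_iff.1 (Subgroup.mem_subgroupOf.1 s.2)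
          show n₀ * s.1.1 * (u : G) * (n₀ * s.1.1)⁻¹ = _
          rw [mul_assoc n₀, h]; group⟩
        left_inv := fun n => Subtype.ext (Subtype.ext (by simp))
        right_inv := fun s => Subtype.ext (Subtype.ext (by simp)) }
  have hPS : Nat.card (P : Subgroup G) ∣ Nat.card S := by
    rw [← Nat.card_congr (Subgroup.subgroupOfEquivOfLe (Subgroup.le_normalizer (H := (P : Subgroup G)))).toEquiv]
    refine Subgroup.card_dvd_of_le fun v hv => ?_
    rw [hS, Subgroup.mem_subgroupOf, Subgroup.mem_centralizer_singleton_iff]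
    exact congrArg Subtype.val (mul_comm' (⟨v, Subgroup.mem_subgroupOf.1 hv⟩ : (P : Subgroup G)) u)
  intro hd
  have h1 : Nat.card (P : Subgroup G) * p ∣ Nat.card G :=
    ((mul_comm (Nat.card (P : Subgroup G)) p ▸ Nat.mul_dvd_mul hd hPS).trans (dvd_of_eq hcard.symm)).trans
      (Subgroup.card_subgroup_dvd_card N)
  rw [← Subgroup.card_mul_index (P : Subgroup G)] at h1
  exact P.not_dvd_index (Nat.dvd_of_mul_dvd_mul_left Nat.card_pos h1)

theorem two_le_nP [IsSimpleGroup G] (hG : ¬ IsMulCommutative G)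
    [IsMulCommutative (P : Subgroup G)] {u : (P : Subgroup G)} (hu : u ≠ 1) :
    2 ≤ nP P (u : G) := by
  haveI : Nonempty {v : (P : Subgroup G) // IsConj (u : G) v} := ⟨⟨u, IsConj.refl _⟩⟩
  by_contra h
  have h1 : nP P (u : G) = 1 := by
    have : 0 < nP P (u : G) := Nat.card_pos
    omega
  obtain ⟨hs, -⟩ := Nat.card_eq_one_iff_unique.1 h1
  refine hu (eq_one_of_fixed hG u fun n hn => ?_)
  have hmem : n * (u : G) * n⁻¹ ∈ (P : Subgroup G) := (Subgroup.mem_normalizer_iff.1 hn _).1 u.2
  have e := Subsingleton.elim (α := {v : (P : Subgroup G) // IsConj (u : G) v})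
    ⟨⟨_, hmem⟩, isConj_iff.2 ⟨n, rfl⟩⟩ ⟨u, IsConj.refl _⟩
  have e' : n * (u : G) * n⁻¹ = u := congrArg (fun w => ((w.1 : (P : Subgroup G)) : G)) e
  calc n * (u : G) = n * u * n⁻¹ * n := by group
    _ = u * n := by rw [e']

/-- An orbit of size two consists of an element and its inverse. -/
theorem eq_or_eq_inv_of_nP_two [IsSimpleGroup G] (hG : ¬ IsMulCommutative G)
    [IsMulCommutative (P : Subgroup G)] (u v : (P : Subgroup G))
    (h : nP P (u : G) = 2) (huv : IsConj (u : G) v) : v = u ∨ v = u⁻¹ := by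
  classical
  by_contra hne
  rw [not_or] at hne
  obtain ⟨a, b, hab, huniv⟩ := Nat.card_eq_two_iff.1 h
  have hmem : ∀ w : (P : Subgroup G), IsConj (u : G) w → w = u ∨ w = v := by
    intro w hw
    by_contra hw'
    rw [not_or] at hw'
    have : ∀ z : {z : (P : Subgroup G) // IsConj (u : G) z}, z = a ∨ z = b := fun z => by
      have hz : z ∈ ({a, b} : Set _) := huniv ▸ Set.mem_univ z
      simpa using hz
    rcases this ⟨u, IsConj.refl _⟩ with e1 | e1 <;> rcases this ⟨v, huv⟩ with e2 | e2 <;>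
      rcases this ⟨w, hw⟩ with e3 | e3 <;>
      first
      | exact hne.1 (congrArg Subtype.val (e2.trans e1.symm))
      | exact hw'.1 (congrArg Subtype.val (e3.trans e1.symm))
      | exact hw'.2 (congrArg Subtype.val (e3.trans e2.symm))
  have huv1 : u * v = 1 := by
    refine eq_one_of_fixed hG (u * v) fun n hn => ?_
    let c : ↥(P : Subgroup G) → ↥(P : Subgroup G) := fun w =>
      ⟨n * w * n⁻¹, (Subgroup.mem_normalizer_iff.1 hn _).1 w.2⟩
    have hinj : Function.Injective c := fun x y e => by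
      have := congrArg Subtype.val e
      simp only [c] at this
      exact Subtype.ext (mul_left_cancel (mul_right_cancel this))
    have hu' := hmem (c u) (isConj_iff.2 ⟨n, rfl⟩)
    have hv' := hmem (c v) (huv.trans (isConj_iff.2 ⟨n, rfl⟩))
    have hval : ((c u * c v : (P : Subgroup G)) : G) = ((u * v : (P : Subgroup G)) : G) := by
      rcases hu' with e1 | e1 <;> rcases hv' with e2 | e2
      · exact absurd (hinj (e2.trans e1.symm)) hne.1
      · rw [e1, e2]
      · rw [e1, e2, mul_comm]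
      · exact absurd (hinj (e2.trans e1.symm)) hne.1
    have h3 : n * ((u * v : (P : Subgroup G)) : G) * n⁻¹ = ((u * v : (P : Subgroup G)) : G) := by
      conv_rhs => rw [← hval]
      simp only [c, Subgroup.coe_mul]
      group
    calc n * ((u * v : (P : Subgroup G)) : G) = n * ((u * v : (P : Subgroup G)) : G) * n⁻¹ * n := by group
      _ = _ := by rw [h3]
  exact hne.2 (eq_inv_of_mul_eq_one_right huv1)

end CfsgLib.PSection
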