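import Cfsg.Agent.Lib.PSection.Basic
import Cfsg.Agent.Lib.PSection.Decomp
import Mathlib.GroupTheory.FiniteAbelian.Duality
import Mathlib.RingTheory.IntegralDomain

/-!
# Abelian Sylow subgroups whose only fusion is inversion
-/

set_option autoImplicit false

open scoped ComplexConjugate IsMulCommutative

namespace CfsgLib.PSection

universe u

section Phi

variable {A : Type u} [CommGroup A]

/-- `2 - l - l⁻¹`. -/
noncomputable def phi (l : A →* ℂˣ) (u : A) : ℂ := 2 - (l u : ℂ) - ((l⁻¹ : A →* ℂˣ) u : ℂ)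

theorem phi_one (l : A →* ℂˣ) : phi l 1 = 0 := by
  simp [phi]; norm_num

theorem phi_inv (l : A →* ℂˣ) (u : A) : phi l u⁻¹ = phi l u := by
  simp only [phi, MonoidHom.inv_apply, map_inv, inv_inv]; ring

theorem conj_phi [Finite A] (l : A →* ℂˣ) (u : A) : conj (phi l u) = phi l u := by
  have h : conj (l u : ℂ) = (((l u)⁻¹ : ℂˣ) : ℂ) := by
    have h1 := Char.IsCharacter.apply_inv
      (Char.IsIrrCharacter.isCharacter (Char.isIrrCharacter_linear l)) u
    simp only [map_inv] at h1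
    exact h1.symm
  have h2 : conj (((l u)⁻¹ : ℂˣ) : ℂ) = (l u : ℂ) := by rw [← h, Complex.conj_conj]
  simp only [phi, MonoidHom.inv_apply, map_sub, h, h2, map_ofNat]
  ring

theorem isGeneralizedCharacter_phi (l : A →* ℂˣ) : Cfsg.IsGeneralizedCharacter A (phi l) := by
  have h := Char.IsGeneralizedCharacter.sub
    (Char.IsGeneralizedCharacter.sub (Char.IsGeneralizedCharacter.intCast (G := A) 2)
      (Char.IsIrrCharacter.isGeneralizedCharacter (Char.isIrrCharacter_linear l)))
    (Char.IsIrrCharacter.isGeneralizedCharacter (Char.isIrrCharacter_linear (l⁻¹)))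
  convert h using 1
  funext u
  simp [phi]

variable [Fintype A]

theorem sum_hom (l : A →* ℂˣ) [Decidable (l = 1)] :
    ∑ u : A, (l u : ℂ) = if l = 1 then (Fintype.card A : ℂ) else 0 := by
  have hiff : (Units.coeHom ℂ).comp l = 1 ↔ l = 1 := by
    constructor
    · intro h
      ext u
      have := DFunLike.congr_fun h u
      simpa using this
    · rintro rfl; ext; simp
  by_cases h : l = 1
  · simp [h]
  · rw [if_neg h]
    exact sum_hom_units_eq_zero ((Units.coeHom ℂ).comp l) (fun h' => h (hiff.1 h'))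

omit [Fintype A] in
theorem hom_inv_eq_one (l : A →* ℂˣ) : l⁻¹ = 1 ↔ l = 1 := inv_eq_one (α := A →* ℂˣ)

omit [Fintype A] in
theorem hom_mul_inv_eq_one (l m : A →* ℂˣ) : l * m⁻¹ = 1 ↔ l = m :=
  mul_inv_eq_one (G := A →* ℂˣ)

omit [Fintype A] in
theorem hom_inv_mul_eq_one (l m : A →* ℂˣ) : l⁻¹ * m = 1 ↔ l = m :=
  inv_mul_eq_one (G := A →* ℂˣ)

omit [Fintype A] in
theorem hom_mul_eq_one (l m : A →* ℂˣ) : l * m = 1 ↔ l = m⁻¹ :=
  mul_eq_one_iff_eq_inv (G := A →* ℂˣ)

theorem card_dual : Nat.card (A →* ℂˣ) = Fintype.card A := by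
  rw [CommGroup.card_monoidHom_of_hasEnoughRootsOfUnity, Nat.card_eq_fintype_card]

theorem hom_mul_self_ne_one {m : ℕ} (hcard : Fintype.card A = 2 * m + 1) {l : A →* ℂˣ}
    (hl : l ≠ 1) : l * l ≠ 1 := by
  intro h
  refine hl (MonoidHom.ext fun u => ?_)
  have h1 : (l u) ^ 2 = 1 := by
    rw [pow_two, ← MonoidHom.mul_apply, h, MonoidHom.one_apply]
  have h2 : u ^ (2 * m + 1) = 1 := by rw [← hcard]; exact pow_card_eq_one
  have h3 := congrArg l h2
  rw [map_pow, map_one, pow_succ, pow_mul, h1, one_pow, one_mul] at h3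
  exact h3

theorem sum_phi (l : A →* ℂˣ) (hl : l ≠ 1) : ∑ u : A, phi l u = 2 * Fintype.card A := by
  classical
  simp only [phi, Finset.sum_sub_distrib, sum_hom, if_neg hl, hom_inv_eq_one, Finset.sum_const,
    Finset.card_univ, nsmul_eq_mul, sub_zero]
  ring

theorem sum_phi_mul (l m : A →* ℂˣ) [DecidableEq (A →* ℂˣ)] (hl : l ≠ 1) (hm : m ≠ 1) :
    ∑ u : A, phi l u * phi m u =
      (Fintype.card A : ℂ) * (4 + 2 * (if l * m = 1 then 1 else 0) + 2 * (if l = m then 1 else 0)) := by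
  classical
  have e : ∀ u : A, phi l u * phi m u = 4 - 2 * (l u : ℂ) - 2 * ((l⁻¹ : A →* ℂˣ) u : ℂ)
      - 2 * (m u : ℂ) - 2 * ((m⁻¹ : A →* ℂˣ) u : ℂ) + ((l * m) u : ℂ) + ((l * m⁻¹) u : ℂ)
      + ((l⁻¹ * m) u : ℂ) + (((l * m)⁻¹ : A →* ℂˣ) u : ℂ) := by
    intro u
    simp only [phi, MonoidHom.mul_apply, MonoidHom.inv_apply, mul_inv, Units.val_mul]
    ring
  simp only [e, Finset.sum_add_distrib, Finset.sum_sub_distrib, ← Finset.mul_sum, sum_hom,
    if_neg hl, if_neg hm, hom_inv_eq_one, hom_mul_inv_eq_one, hom_inv_mul_eq_one, Finset.sum_const, Finset.card_univ, nsmul_eq_mul,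
    mul_zero, sub_zero]
  split_ifs <;> ring

omit [Fintype A] in
theorem exists_not_mem {T : Type*} [Finite T] (s : Finset T) (h : s.card < Nat.card T) :
    ∃ x, x ∉ s := by
  haveI := Fintype.ofFinite T
  by_contra hh
  have : s = Finset.univ := Finset.eq_univ_iff_forall.2 (by simpa using hh)
  rw [this, Finset.card_univ, Nat.card_eq_fintype_card] at h
  exact lt_irrefl _ h

/-- Representatives of the nontrivial linear characters up to inversion. -/
theorem exists_family {m : ℕ} (hcard : Fintype.card A = 2 * m + 1) (l₀ : A →* ℂˣ) (h₀ : l₀ ≠ 1)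
    (hm : 0 < m) :
    ∃ L : Fin m → (A →* ℂˣ), L ⟨0, hm⟩ = l₀ ∧ (∀ i, L i ≠ 1) ∧
      (∀ i j, i ≠ j → L i ≠ L j ∧ L i * L j ≠ 1) ∧
      ∀ u : A, u ≠ 1 → ∑ i, phi (L i) u = (Fintype.card A : ℂ) := by
  classical
  haveI : Finite (A →* ℂˣ) := Nat.finite_of_card_ne_zero (by rw [card_dual]; omega)
  haveI := Fintype.ofFinite (A →* ℂˣ)
  have hodd : ∀ l : A →* ℂˣ, l ≠ 1 → l ≠ l⁻¹ := fun l hl h =>
    hom_mul_self_ne_one hcard hl ((hom_mul_eq_one l l).2 h)
  have key : ∀ j, j < m → ∃ L : Fin (j + 1) → (A →* ℂˣ), L 0 = l₀ ∧ (∀ i, L i ≠ 1) ∧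
      ∀ i i', i ≠ i' → L i ≠ L i' ∧ L i * L i' ≠ 1 := by
    intro j
    induction j with
    | zero =>
      exact fun _ => ⟨fun _ => l₀, rfl, fun _ => h₀, fun i i' h => absurd (Fin.ext (by omega)) h⟩
    | succ j ih =>
      intro hj
      obtain ⟨L, hL0, hL1, hL⟩ := ih (by omega)
      obtain ⟨x, hx⟩ := exists_not_mem
        ({1} ∪ Finset.univ.image L ∪ Finset.univ.image (fun i => (L i)⁻¹)) (by
          refine lt_of_le_of_lt ((Finset.card_union_le _ _).trans (add_le_add
            ((Finset.card_union_le _ _).trans (add_le_add (le_of_eq (Finset.card_singleton _))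
              Finset.card_image_le)) Finset.card_image_le)) ?_
          rw [Finset.card_univ, Fintype.card_fin, card_dual, hcard]
          omega)
      simp only [Finset.mem_union, Finset.mem_singleton, Finset.mem_image, Finset.mem_univ, true_and,
        not_or, not_exists] at hx
      refine ⟨Fin.snoc L x, ?_, ?_, ?_⟩
      · rw [← Fin.castSucc_zero, Fin.snoc_castSucc, hL0]
      · intro i
        refine Fin.lastCases ?_ (fun i => ?_) i
        · rw [Fin.snoc_last]; exact hx.1.1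
        · rw [Fin.snoc_castSucc]; exact hL1 i
      · intro i i'
        refine Fin.lastCases ?_ (fun a => ?_) i <;> refine Fin.lastCases ?_ (fun b => ?_) i'
        · exact fun h => absurd rfl h
        · intro _
          rw [Fin.snoc_last, Fin.snoc_castSucc]
          exact ⟨fun e => hx.1.2 b e.symm, fun e => hx.2 b ((hom_mul_eq_one _ _).1 e).symm⟩
        · intro _
          rw [Fin.snoc_last, Fin.snoc_castSucc]
          exact ⟨hx.1.2 a, fun e => hx.2 a ((hom_mul_eq_one _ _).1 ((mul_comm (G := A →* ℂˣ) _ _).trans e)).symm⟩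
        · intro h
          rw [Fin.snoc_castSucc, Fin.snoc_castSucc]
          exact hL a b (fun e => h (e ▸ rfl))
  obtain ⟨m, rfl⟩ : ∃ k, m = k + 1 := ⟨m - 1, by omega⟩
  obtain ⟨L, hL0, hL1, hL⟩ := key m (by omega)
  refine ⟨L, hL0, hL1, hL, fun u hu => ?_⟩
  have hsum : ∑ l : A →* ℂˣ, (l u : ℂ) = 0 := by
    obtain ⟨φ, hφ⟩ := CommGroup.exists_apply_ne_one_of_hasEnoughRootsOfUnity A ℂ hu
    have h : (φ u : ℂ) * ∑ l : A →* ℂˣ, (l u : ℂ) = ∑ l : A →* ℂˣ, (l u : ℂ) := by
      rw [Finset.mul_sum]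
      exact Fintype.sum_equiv (Equiv.mulLeft φ) _ _ fun l => by simp
    have h1 : ((φ u : ℂ) - 1) * ∑ l : A →* ℂˣ, (l u : ℂ) = 0 := by rw [sub_mul, h, one_mul, sub_self]
    refine (mul_eq_zero.1 h1).resolve_left ?_
    rw [sub_eq_zero]
    exact fun e => hφ (Units.ext (by simpa using e))
  let E : Option (Fin (m + 1) ⊕ Fin (m + 1)) → (A →* ℂˣ) := fun o =>
    o.elim 1 (Sum.elim L fun i => (L i)⁻¹)
  have hinj : Function.Injective E := by
    have hne : ∀ i j, L i ≠ (L j)⁻¹ := by
      intro i j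
      by_cases h : i = j
      · subst h; exact hodd _ (hL1 i)
      · exact fun e => (hL i j h).2 ((hom_mul_eq_one _ _).2 e)
    have hLi : Function.Injective L := fun i j e => by_contra fun h => (hL i j h).1 e
    rintro (_ | a | a) (_ | b | b) e <;> simp only [E, Option.elim, Sum.elim_inl, Sum.elim_inr] at e
    · rfl
    · exact absurd e.symm (hL1 b)
    · exact absurd ((hom_inv_eq_one _).1 e.symm) (hL1 b)
    · exact absurd e (hL1 a)
    · rw [hLi e]
    · exact absurd e (hne a b)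
    · exact absurd ((hom_inv_eq_one _).1 e) (hL1 a)
    · exact absurd e.symm (hne b a)
    · rw [hLi (inv_injective e)]
  have hbij : Function.Bijective E := by
    rw [Fintype.bijective_iff_injective_and_card]
    refine ⟨hinj, ?_⟩
    rw [← Nat.card_eq_fintype_card (α := A →* ℂˣ), card_dual, hcard]
    simp
    ring
  have hsum2 : ∑ o, ((E o) u : ℂ) = 0 := by
    rw [← hsum]
    exact Fintype.sum_bijective E hbij _ _ fun _ => rfl
  simp only [E, Fintype.sum_option, Fintype.sum_sum_type, Option.elim, Sum.elim_inl, Sum.elim_inr,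
    MonoidHom.one_apply, Units.val_one] at hsum2
  simp only [phi, Finset.sum_sub_distrib, Finset.sum_const, Finset.card_univ, Fintype.card_fin,
    nsmul_eq_mul, hcard]
  push_cast
  linear_combination -hsum2

end Phi

variable {G : Type u} [Group G] [Finite G] {p : ℕ} [Fact p.Prime] {P : Sylow p G} {k : ℕ}

/-- The only fusion in `P` is inversion and centralisers of nontrivial elements fuse nothing. -/
structure InvFusion (P : Sylow p G) : Prop where
  inv_conj : ∀ u : (P : Subgroup G), IsConj (u : G) ((u⁻¹ : (P : Subgroup G)) : G)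
  fusion : ∀ u v : (P : Subgroup G), IsConj (u : G) v → v = u ∨ v = u⁻¹
  mu_eq : ∀ u : (P : Subgroup G), u ≠ 1 → mu p (u : G) = (Nat.card (P : Subgroup G) : ℂ)⁻¹

theorem InvFusion.nP_eq (h : InvFusion P) (hp2 : p ≠ 2) {u : (P : Subgroup G)} (hu : u ≠ 1) :
    nP P (u : G) = 2 := by
  classical
  haveI := Fintype.ofFinite (P : Subgroup G)
  rw [nP, Nat.card_eq_fintype_card, Fintype.card_subtype, Finset.card_eq_two]
  refine ⟨u, u⁻¹, fun e => ?_, ?_⟩
  · have h2 : orderOf u ∣ 2 := orderOf_dvd_of_pow_eq_one (by rw [pow_two]; exact mul_eq_one_iff_eq_inv.2 e)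
    obtain ⟨n, hn⟩ := P.isPGroup'.exists_card_eq
    have h3 : orderOf u ∣ p ^ n := hn ▸ orderOf_dvd_natCard u
    exact hu (orderOf_eq_one_iff.1 (Nat.eq_one_of_dvd_coprimes
      (((Nat.coprime_primes (Fact.out : p.Prime) Nat.prime_two).2 hp2).pow_left n) h3 h2))
  · ext v
    simp only [Finset.mem_filter, Finset.mem_univ, true_and, Finset.mem_insert, Finset.mem_singleton]
    constructor
    · exact h.fusion u v
    · rintro (rfl | rfl)
      · exact IsConj.refl _
      · exact h.inv_conj u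

theorem InvFusion.stable [IsMulCommutative (P : Subgroup G)] (h : InvFusion P)
    (l : (P : Subgroup G) →* ℂˣ) : Stable P (phi l) := by
  intro u v huv
  rcases h.fusion u v huv with rfl | rfl
  · rfl
  · rw [phi_inv]

theorem stable_const (c : ℂ) : Stable P (fun _ => c) := fun _ _ _ => rfl

theorem InvFusion.inner [Fintype G] [Fintype (P : Subgroup G)] (h : InvFusion P) (hp2 : p ≠ 2)
    (hk : Expo P k) {φ ψ : ↥(P : Subgroup G) → ℂ} (hφ : Stable P φ) (hψ : Stable P ψ)
    (h1 : φ 1 = 0) :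
    Cfsg.classInner (ext P k φ) (ext P k ψ) =
      (2 * (Fintype.card (P : Subgroup G) : ℂ))⁻¹ * ∑ u, φ u * conj (ψ u) := by
  rw [classInner_ext hk hφ hψ, Finset.mul_sum]
  refine Finset.sum_congr rfl fun u _ => ?_
  by_cases hu : u = 1
  · simp [hu, h1]
  · rw [h.mu_eq u hu, h.nP_eq hp2 hu, Nat.card_eq_fintype_card, mul_inv]
    push_cast
    ring

theorem ext_const (hk : Expo P k) (c : ℂ) (g : G) : ext P k (fun _ => c) g = c := by
  obtain ⟨u, hu⟩ := exists_conj_mem (pow_card_pow hk g)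
  exact ext_apply (stable_const c) hu

theorem ext_eq_zero_or {φ : ↥(P : Subgroup G) → ℂ} (hk : Expo P k) (hφ : Stable P φ) {n : ℂ}
    (h0 : φ 1 = 0) (h : ∀ u, u ≠ 1 → φ u = n) (g : G) :
    ext P k φ g = if p ∣ orderOf g then n else 0 := by
  split_ifs with hg
  · obtain ⟨u, hu⟩ := exists_conj_mem (pow_card_pow hk g)
    rw [ext_apply hφ hu]
    refine h u fun e => ?_
    subst e
    rw [OneMemClass.coe_one, isConj_one_left] at hu
    have hm := regular_inv_mul hk g
    rw [hu, inv_one, one_mul] at hm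
    exact hm hg
  · rw [ext_regular hk hφ hg, h0]

/-- The pair decompositions, and the coefficients of the sum of the family. -/
theorem InvFusion.exists_coeff [Fintype G] [IsMulCommutative (P : Subgroup G)]
    [DecidableEq (Cfsg.IrrCharacter G)] [Fintype (P : Subgroup G)]
    (h : InvFusion P) (hp2 : p ≠ 2) (hk : Expo P k) {m : ℕ}
    (hcard : Fintype.card (P : Subgroup G) = 2 * m + 1) (hm : 0 < m)
    (L : Fin m → ((P : Subgroup G) →* ℂˣ)) (hL1 : ∀ i, L i ≠ 1)
    (hL : ∀ i j, i ≠ j → L i ≠ L j ∧ L i * L j ≠ 1)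
    (hsum : ∀ u, u ≠ 1 → ∑ i, phi (L i) u = (Fintype.card (P : Subgroup G) : ℂ)) :
    let Φ := fun i => ext P k (phi (L i))
    (∀ i, Cfsg.IsGeneralizedCharacter G (Φ i)) ∧
    (∀ i, ∃ A B e f, Pr (coef (Φ i)) Char.principalIrr A B e f) ∧
    (∀ i j, i ≠ j → ∑ χ, coef (Φ i) χ * coef (Φ j) χ = 2) ∧
    Cfsg.IsGeneralizedCharacter G (ext P k (fun u => ∑ i, phi (L i) u)) ∧
    (∀ χ, coef (ext P k (fun u => ∑ i, phi (L i) u)) χ = ∑ i, coef (Φ i) χ) ∧
    (∀ g, ext P k (fun u => ∑ i, phi (L i) u) g =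
      if p ∣ orderOf g then (Fintype.card (P : Subgroup G) : ℂ) else 0) := by
  classical
  intro Φ
  have hst := fun i => h.stable (L i)
  have hg : ∀ i, Cfsg.IsGeneralizedCharacter G (Φ i) := fun i =>
    isGeneralizedCharacter_ext hk (hst i) (isGeneralizedCharacter_phi _)
  have hc : (Fintype.card (P : Subgroup G) : ℂ) ≠ 0 := Nat.cast_ne_zero.2 Fintype.card_pos.ne'
  have hodd : ∀ i, L i * L i ≠ 1 := fun i => hom_mul_self_ne_one hcard (hL1 i)
  have hin : ∀ i j, Cfsg.classInner (Φ i) (Φ j) = if i = j then 3 else 2 := by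
    intro i j
    rw [h.inner hp2 hk (hst i) (hst j) (phi_one _)]
    simp only [conj_phi, sum_phi_mul _ _ (hL1 i) (hL1 j)]
    by_cases hij : i = j
    · subst hij
      rw [if_pos rfl, if_pos rfl, if_neg (hodd i)]
      field_simp
      norm_num
    · rw [if_neg hij, if_neg (hL i j hij).1, if_neg (hL i j hij).2]
      field_simp
      norm_num
  have h1 : ∀ i, Cfsg.classInner (Φ i) (fun _ => (1 : ℂ)) = 1 := by
    intro i
    rw [show (fun _ : G => (1 : ℂ)) = ext P k (fun _ => 1) from funext fun g => (ext_const hk 1 g).symm,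
      h.inner hp2 hk (hst i) (stable_const 1) (phi_one _)]
    simp only [map_one, mul_one, sum_phi _ (hL1 i)]
    field_simp
  have hS : Stable P (fun u => ∑ i, phi (L i) u) := fun u v huv =>
    Finset.sum_congr rfl fun i _ => hst i u v huv
  have hSeq : ext P k (fun u => ∑ i, phi (L i) u) = ∑ i, Φ i := by
    funext g
    obtain ⟨u, hu⟩ := exists_conj_mem (pow_card_pow hk g)
    simp only [Finset.sum_apply, Φ, ext_apply hS hu, ext_apply (hst _) hu]
  have hSg : Cfsg.IsGeneralizedCharacter G (ext P k (fun u => ∑ i, phi (L i) u)) := by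
    rw [hSeq]; exact Char.IsGeneralizedCharacter.sum _ _ fun i _ => hg i
  refine ⟨hg, fun i => exists_pr_coef (hg i) (by rw [hin, if_pos rfl]) (h1 i), fun i j hij => ?_,
    hSg, fun χ => ?_, fun g => ?_⟩
  · exact sum_coef_mul (hg i) (hg j) (by rw [hin, if_neg hij]; norm_num)
  · have e := classInner_eq_coef hSg χ
    rw [hSeq, Char.classInner_sum_left] at e
    simp only [classInner_eq_coef (hg _)] at e
    rw [← hSeq] at e
    exact_mod_cast e.symm
  · exact ext_eq_zero_or hk hS (by simp [phi_one]) hsum g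

end CfsgLib.PSection
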