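import Cfsg.Agent.Lib.PSection.Fusion

/-!
# The relation between two characters for a Sylow subgroup of order nine with three classes
-/

set_option autoImplicit false

open scoped ComplexConjugate IsMulCommutative

namespace CfsgLib.PSection

universe u

variable {G : Type u} [Group G] [Fintype G] {P : Sylow 3 G} {k : ℕ}

theorem phi_pow_eq {A : Type u} [CommGroup A] {l : A →* ℂˣ} (hl : ∀ u, l u ^ 3 = 1) (u : A) {j : ℕ}
    (hj : ¬ 3 ∣ j) : phi l (u ^ j) = phi l u := by
  have h : l (u ^ j) = l u ^ (j % 3) := by rw [map_pow]; exact pow_eq_pow_mod j (hl u)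
  rcases (show j % 3 = 1 ∨ j % 3 = 2 by omega) with h1 | h1
  · rw [h1, pow_one] at h
    simp only [phi, MonoidHom.inv_apply, h]
  · rw [h1] at h
    have h2 : l (u ^ j) = (l u)⁻¹ := by
      rw [h]; exact eq_inv_of_mul_eq_one_left (by rw [← pow_succ]; exact hl u)
    simp only [phi, MonoidHom.inv_apply, h2, inv_inv]
    ring

/-- The relation `1 + e A + f B = φ` with `3` prime to both degrees. -/
def HasRel [IsMulCommutative (P : Subgroup G)] [Fintype (P : Subgroup G)] (k : ℕ) : Prop :=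
  ∃ (A B : Cfsg.IrrCharacter G) (e f : ℤ) (l : (P : Subgroup G) →* ℂˣ),
    A ≠ Char.principalIrr ∧ B ≠ Char.principalIrr ∧ A ≠ B ∧ (e = 1 ∨ e = -1) ∧ (f = 1 ∨ f = -1) ∧
      l ≠ 1 ∧ (∀ u, l u ^ 3 = 1) ∧ Stable P (phi l) ∧
      (∀ g, ext P k (phi l) g = 1 + (e : ℂ) * (A : G → ℂ) g + (f : ℂ) * (B : G → ℂ) g) ∧
      ¬ 3 ∣ Cfsg.charDegree (A : G → ℂ) ∧ ¬ 3 ∣ Cfsg.charDegree (B : G → ℂ)

theorem hasRel_of_invFusion [IsMulCommutative (P : Subgroup G)] [Fintype (P : Subgroup G)]
    (hcard : Nat.card (P : Subgroup G) = 9) (hk : Expo P k) (h : InvFusion P) :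
    HasRel (P := P) k := by
  classical
  have hc : Fintype.card (P : Subgroup G) = 2 * 4 + 1 := by rw [← Nat.card_eq_fintype_card, hcard]
  haveI : Finite ((P : Subgroup G) →* ℂˣ) := Nat.finite_of_card_ne_zero (by rw [card_dual]; omega)
  obtain ⟨l₀, hl₀⟩ := exists_prime_orderOf_dvd_card' 3
    (show 3 ∣ Nat.card ((P : Subgroup G) →* ℂˣ) by rw [card_dual, hc]; norm_num)
  have hne : l₀ ≠ 1 := fun e => by rw [e, orderOf_one] at hl₀; norm_num at hl₀
  have hcube : ∀ u, l₀ u ^ 3 = 1 := fun u => by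
    have h3 : l₀ ^ 3 = 1 := by have := pow_orderOf_eq_one l₀; rwa [hl₀] at this
    have := DFunLike.congr_fun h3 u
    simpa [MonoidHom.pow_apply] using this
  obtain ⟨L, hL0, hL1, hL, hsum⟩ := exists_family hc l₀ hne (by norm_num)
  obtain ⟨hg, hpr, hdot, hSg, hScoef, hSX⟩ :=
    h.exists_coeff (by decide) hk hc (by norm_num) L hL1 hL hsum
  obtain ⟨A, B, e, f, h0⟩ := hpr 0
  obtain ⟨hA, hB⟩ := four_vectors hpr hdot h0
  have hX : ∀ g x : G, (3 ∣ orderOf (x * g * x⁻¹)) ↔ (3 ∣ orderOf g) := by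
    intro g x
    rw [show orderOf (x * g * x⁻¹) = orderOf g from orderOf_injective (MulAut.conj x).toMonoidHom
      (MulAut.conj x).injective g]
  have hdeg : ∀ χ, ¬ (3 : ℤ) ∣ ∑ i, coef (ext P k (phi (L i))) χ →
      ¬ 3 ∣ Cfsg.charDegree (χ : G → ℂ) := fun χ hχ =>
    not_dvd_degree hX (n := Fintype.card (P : Subgroup G)) (m := (P : Subgroup G).index)
      Nat.prime_three Fintype.card_ne_zero
      (by rw [← Nat.card_eq_fintype_card, Subgroup.card_mul_index]) P.not_dvd_index hSg hSX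
      (by rw [hScoef]; exact_mod_cast hχ)
  have hL0' : L 0 = l₀ := hL0
  refine ⟨A, B, e, f, L 0, h0.hA, h0.hB, h0.hne, h0.he, h0.hf, hL1 0, hL0' ▸ hcube, h.stable _,
    h0.apply_eq (hg 0), hdeg A hA, hdeg B hB⟩

section NineVec

variable [IsSimpleGroup G] [IsMulCommutative (P : Subgroup G)]

/-- Generators of order three, each conjugate only to its inverse, with all mixed products fused. -/
structure Split (P : Sylow 3 G) (x y : (P : Subgroup G)) : Prop where
  ox : x ^ 3 = 1
  oy : y ^ 3 = 1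
  bij : Function.Bijective fun c : Fin 3 × Fin 3 => x ^ (c.1 : ℕ) * y ^ (c.2 : ℕ)
  cx : ∀ v : (P : Subgroup G), IsConj (x : G) v → v = x ∨ v = x⁻¹
  cy : ∀ v : (P : Subgroup G), IsConj (y : G) v → v = y ∨ v = y⁻¹
  nx : ∀ i : Fin 3, i ≠ 0 → nP P ((x ^ (i : ℕ) : (P : Subgroup G)) : G) = 2
  ny : ∀ j : Fin 3, j ≠ 0 → nP P ((y ^ (j : ℕ) : (P : Subgroup G)) : G) = 2
  nm : ∀ i j : Fin 3, i ≠ 0 → j ≠ 0 →
    nP P ((x ^ (i : ℕ) * y ^ (j : ℕ) : (P : Subgroup G)) : G) = 4
  swap_y : IsConj ((x * y : (P : Subgroup G)) : G) ((x * y⁻¹ : (P : Subgroup G)) : G)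
  swap_x : IsConj ((x * y : (P : Subgroup G)) : G) ((x⁻¹ * y : (P : Subgroup G)) : G)

variable {x y : (P : Subgroup G)}

omit [IsSimpleGroup G] in
theorem Split.symm (h : Split P x y) : Split P y x := by
  refine ⟨h.oy, h.ox, ?_, h.cy, h.cx, h.ny, h.nx, fun i j hi hj => ?_, ?_, ?_⟩
  · have : (fun c : Fin 3 × Fin 3 => y ^ (c.1 : ℕ) * x ^ (c.2 : ℕ)) =
        (fun c : Fin 3 × Fin 3 => x ^ (c.1 : ℕ) * y ^ (c.2 : ℕ)) ∘ Prod.swap := by
      funext c; simp [mul_comm]
    rw [this]
    exact h.bij.comp Prod.swap_bijective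
  · rw [mul_comm]; exact h.nm j i hj hi
  · rw [mul_comm y x, mul_comm y x⁻¹]; exact h.swap_x
  · rw [mul_comm y x, mul_comm y⁻¹ x]; exact h.swap_y

end NineVec

/-! ### The possible fusions -/

theorem exists_hom {A : Type u} [CommGroup A] [Finite A] {a b : A} (h : b ∉ Subgroup.zpowers a) :
    ∃ l : A →* ℂˣ, l a = 1 ∧ l b ≠ 1 := by
  have h1 := mt (CommGroup.forall_monoidHom_apply_eq_one_iff ℂ (Subgroup.zpowers a) b).1 h
  simp only [not_forall] at h1
  obtain ⟨l, hl, hb⟩ := h1
  exact ⟨l, hl a (Subgroup.mem_zpowers a), hb⟩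

theorem not_mem_zpowers_of_cube {A : Type u} [Group A] {a b : A} (ha : a ^ 3 = 1) (h0 : b ≠ 1)
    (h1 : b ≠ a) (h2 : b ≠ a⁻¹) : b ∉ Subgroup.zpowers a := by
  intro hb
  obtain ⟨k, hk⟩ := Subgroup.mem_zpowers_iff.1 hb
  have h3 : a ^ k = a ^ (k % 3) := by
    exact_mod_cast zpow_eq_zpow_emod' k ha
  rw [h3] at hk
  rcases (show k % 3 = 0 ∨ k % 3 = 1 ∨ k % 3 = 2 by omega) with e | e | e <;> rw [e] at hk
  · exact h0 (by rw [← hk, zpow_zero])
  · exact h1 (by rw [← hk, zpow_one])
  · exact h2 (by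
      rw [← hk, show (2 : ℤ) = ((2 : ℕ) : ℤ) from rfl, zpow_natCast]
      exact eq_inv_of_mul_eq_one_left (by rw [← pow_succ]; exact ha))

variable [IsSimpleGroup G] [IsMulCommutative (P : Subgroup G)]

/-- Conjugation by an element of the normaliser, on `P`. -/
def conjP (n : G) (hn : n ∈ Subgroup.normalizer ((P : Subgroup G) : Set G)) :
    (P : Subgroup G) →* (P : Subgroup G) where
  toFun w := ⟨n * w * n⁻¹, (Subgroup.mem_normalizer_iff.1 hn _).1 w.2⟩
  map_one' := Subtype.ext (by simp)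
  map_mul' a b := Subtype.ext (by simp [mul_assoc])

omit [Fintype G] [IsSimpleGroup G] [IsMulCommutative (P : Subgroup G)] in
theorem conjP_isConj (n : G) (hn : n ∈ Subgroup.normalizer ((P : Subgroup G) : Set G))
    (w : (P : Subgroup G)) : IsConj (w : G) (conjP n hn w : G) := isConj_iff.2 ⟨n, rfl⟩

omit [Fintype G] [IsSimpleGroup G] [IsMulCommutative (P : Subgroup G)] in
theorem conjP_eq_self {n : G} (hn : n ∈ Subgroup.normalizer ((P : Subgroup G) : Set G))
    {w : (P : Subgroup G)} (h : conjP n hn w = w) : n * (w : G) = w * n := by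
  have h' : n * (w : G) * n⁻¹ = w := congrArg Subtype.val h
  calc n * (w : G) = n * w * n⁻¹ * n := by group
    _ = w * n := by rw [h']

omit [Fintype G] [IsSimpleGroup G] [IsMulCommutative (P : Subgroup G)] in
theorem conjP_of_comm {n : G} (hn : n ∈ Subgroup.normalizer ((P : Subgroup G) : Set G))
    {w : (P : Subgroup G)} (h : n * (w : G) = w * n) : conjP n hn w = w :=
  Subtype.ext (show n * (w : G) * n⁻¹ = w by rw [h]; group)

theorem exists_three_reps (hcard : Nat.card (P : Subgroup G) = 9)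
    (h3 : 3 ≤ Nat.card {C : ConjClasses G // ∃ g ∈ C.carrier, g ≠ 1 ∧ orderOf g ∣ 9}) :
    ∃ u : Fin 3 → (P : Subgroup G), (∀ i, u i ≠ 1) ∧
      ∀ i j, i ≠ j → ¬ IsConj (u i : G) (u j : G) := by
  set T := {C : ConjClasses G // ∃ g ∈ C.carrier, g ≠ 1 ∧ orderOf g ∣ 9}
  haveI : Finite T := Nat.finite_of_card_ne_zero (by omega)
  haveI := Fintype.ofFinite T
  rw [Nat.card_eq_fintype_card, ← Fintype.card_fin 3] at h3
  obtain ⟨F⟩ := Function.Embedding.nonempty_of_card_le h3
  have hr : ∀ i, ∃ u : (P : Subgroup G), u ≠ 1 ∧ (F i).1 = ConjClasses.mk (u : G) := by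
    intro i
    obtain ⟨g, hgC, hg1, hg9⟩ := (F i).2
    obtain ⟨u, hu⟩ := exists_conj_mem (P := P) (w := g)
      (by rw [hcard]; exact orderOf_dvd_iff_pow_eq_one.1 hg9)
    refine ⟨u, fun e => ?_, ?_⟩
    · subst e; rw [OneMemClass.coe_one, isConj_one_left] at hu; exact hg1 hu
    · rw [← ConjClasses.mem_carrier_iff_mk_eq.1 hgC]
      exact ConjClasses.mk_eq_mk_iff_isConj.2 hu
  choose u hu1 hu2 using hr
  refine ⟨u, hu1, fun i j hij hc => hij (F.injective (Subtype.ext ?_))⟩
  rw [hu2, hu2]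
  exact ConjClasses.mk_eq_mk_iff_isConj.2 hc

theorem card_three_classes [Fintype (P : Subgroup G)] (hcard : Nat.card (P : Subgroup G) = 9)
    {a b c : (P : Subgroup G)} (ha : a ≠ 1) (hb : b ≠ 1) (hc : c ≠ 1) (hab : ¬ IsConj (a : G) b)
    (hac : ¬ IsConj (a : G) c) (hbc : ¬ IsConj (b : G) c) :
    nP P (a : G) + nP P (b : G) + nP P (c : G) ≤ 8 := by
  classical
  simp only [nP, Nat.card_eq_fintype_card, Fintype.card_subtype]
  rw [← Finset.card_union_of_disjoint, ← Finset.card_union_of_disjoint]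
  · refine (Finset.card_le_card (t := Finset.univ.erase 1) fun z hz => ?_).trans ?_
    · simp only [Finset.mem_union, Finset.mem_filter, Finset.mem_univ, true_and] at hz
      refine Finset.mem_erase.2 ⟨fun e => ?_, Finset.mem_univ _⟩
      subst e
      simp only [OneMemClass.coe_one, isConj_one_left] at hz
      rcases hz with (h | h) | h
      · exact ha (Subtype.ext h)
      · exact hb (Subtype.ext h)
      · exact hc (Subtype.ext h)
    · rw [Finset.card_erase_of_mem (Finset.mem_univ _), Finset.card_univ,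
        ← Nat.card_eq_fintype_card, hcard]
  · rw [Finset.disjoint_left]
    intro z hz hz'
    simp only [Finset.mem_union, Finset.mem_filter, Finset.mem_univ, true_and] at hz hz'
    rcases hz with h | h
    · exact hac (h.trans hz'.symm)
    · exact hbc (h.trans hz'.symm)
  · rw [Finset.disjoint_left]
    intro z hz hz'
    simp only [Finset.mem_filter, Finset.mem_univ, true_and] at hz hz'
    exact hab (hz.trans hz'.symm)

theorem invFusion_or_split (hG : ¬ IsMulCommutative G) (hcard : Nat.card (P : Subgroup G) = 9)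
    (h3 : 3 ≤ Nat.card {C : ConjClasses G // ∃ g ∈ C.carrier, g ≠ 1 ∧ orderOf g ∣ 9}) :
    InvFusion P ∨ ∃ x y : (P : Subgroup G), Split P x y := by
  classical
  haveI := Fintype.ofFinite (P : Subgroup G)
  obtain ⟨r, hr1, hr⟩ := exists_three_reps hcard h3
  have two := fun (u : (P : Subgroup G)) (hu : u ≠ 1) => two_le_nP hG hu
  have hne3 : ∀ u : (P : Subgroup G), nP P (u : G) ≠ 3 := fun u e =>
    not_dvd_nP u (by rw [e])
  have hex : ∀ u : (P : Subgroup G), u ≠ 1 → ∀ i j : Fin 3, i ≠ j → ¬ IsConj (u : G) (r i) →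
      ¬ IsConj (u : G) (r j) → nP P (u : G) + nP P (r i : G) + nP P (r j : G) ≤ 8 :=
    fun u hu i j hij h1 h2 => card_three_classes hcard hu (hr1 i) (hr1 j) h1 h2 (hr i j hij)
  have hval : ∀ u : (P : Subgroup G), u ≠ 1 → nP P (u : G) = 2 ∨ nP P (u : G) = 4 := by
    intro u hu
    have hle : nP P (u : G) ≤ 4 := by
      have hp : ∃ i j : Fin 3, i ≠ j ∧ ¬ IsConj (u : G) (r i) ∧ ¬ IsConj (u : G) (r j) := by
        by_cases h0 : IsConj (u : G) (r 0)
        · exact ⟨1, 2, by decide, fun h => hr 0 1 (by decide) (h0.symm.trans h),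
            fun h => hr 0 2 (by decide) (h0.symm.trans h)⟩
        by_cases h1 : IsConj (u : G) (r 1)
        · exact ⟨0, 2, by decide, h0, fun h => hr 1 2 (by decide) (h1.symm.trans h)⟩
        exact ⟨0, 1, by decide, h0, h1⟩
      obtain ⟨i, j, hij, h1, h2⟩ := hp
      have := hex u hu i j hij h1 h2
      have := two _ (hr1 i); have := two _ (hr1 j)
      omega
    have := two u hu; have := hne3 u
    omega
  have hfour : ∀ u v : (P : Subgroup G), u ≠ 1 → v ≠ 1 → nP P (u : G) = 4 → nP P (v : G) = 4 →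
      IsConj (u : G) v := by
    intro u v hu hv h1 h2
    by_contra hc
    obtain ⟨i, hi1, hi2⟩ : ∃ i : Fin 3, ¬ IsConj (u : G) (r i) ∧ ¬ IsConj (v : G) (r i) := by
      by_contra hh
      simp only [not_exists, not_and_or, not_not] at hh
      rcases hh 0 with a | a <;> rcases hh 1 with b | b <;> rcases hh 2 with c | c <;>
        first
        | exact hr 0 1 (by decide) (a.symm.trans b)
        | exact hr 0 2 (by decide) (a.symm.trans c)
        | exact hr 1 2 (by decide) (b.symm.trans c)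
    have := card_three_classes hcard hu hv (hr1 i) hc hi1 hi2
    have := two _ (hr1 i)
    omega
  have hpair : ∀ u : (P : Subgroup G), nP P (u : G) = 2 →
      ∀ v : (P : Subgroup G), IsConj (u : G) v → v = u ∨ v = u⁻¹ := fun u h v => eq_or_eq_inv_of_nP_two hG u v h
  have hodd : ∀ u : (P : Subgroup G), u ≠ 1 → u ≠ u⁻¹ := by
    intro u hu e
    have h2 : orderOf u ∣ 2 :=
      orderOf_dvd_of_pow_eq_one (by rw [pow_two]; exact mul_eq_one_iff_eq_inv.2 e)
    have h9 : orderOf u ∣ 9 := hcard ▸ orderOf_dvd_natCard u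
    exact hu (orderOf_eq_one_iff.1 (Nat.eq_one_of_dvd_coprimes (by norm_num : Nat.Coprime 2 9) h2 h9))
  by_cases hall : ∀ u : (P : Subgroup G), u ≠ 1 → nP P (u : G) = 2
  · left
    refine ⟨fun u => ?_, fun u v huv => ?_, fun u hu => ?_⟩
    · by_cases hu : u = 1
      · subst hu; simp
      · obtain ⟨a, b, hab, hun⟩ := Nat.card_eq_two_iff.1 (hall u hu)
        have : ∃ w : {v : (P : Subgroup G) // IsConj (u : G) v}, w.1 ≠ u := by
          by_contra hh
          simp only [not_exists, not_not] at hh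
          exact hab (Subtype.ext ((hh a).trans (hh b).symm))
        obtain ⟨w, hw⟩ := this
        have := (hpair u (hall u hu) w.1 w.2).resolve_left hw
        rw [← this]; exact w.2
    · by_cases hu : u = 1
      · subst hu
        rw [OneMemClass.coe_one, isConj_one_right] at huv
        exact Or.inl (Subtype.ext huv)
      · exact hpair u (hall u hu) v huv
    · refine mu_eq_inv_card P u.2 fun n hn hnu v hv => ?_
      have eu : conjP n hn u = u := conjP_of_comm hn hnu
      suffices e : conjP n hn ⟨v, hv⟩ = ⟨v, hv⟩ from conjP_eq_self hn e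
      set w : (P : Subgroup G) := ⟨v, hv⟩
      by_cases hw : w = 1
      · rw [hw, map_one]
      refine (hpair w (hall w hw) _ (conjP_isConj n hn w)).resolve_right fun ew => ?_
      by_cases huw : u * w = 1
      · have e1 := congrArg (conjP n hn) huw
        rw [map_mul, map_one, eu, ew] at e1
        exact hodd w hw (mul_left_cancel (huw.trans e1.symm))
      rcases hpair (u * w) (hall _ huw) _ (conjP_isConj n hn (u * w)) with e1 | e1 <;>
        rw [map_mul, eu, ew] at e1
      · exact hodd w hw (mul_left_cancel e1).symm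
      · rw [mul_inv] at e1
        exact hodd u hu (mul_right_cancel e1)
  right
  simp only [not_forall] at hall
  obtain ⟨w, hw, hw2⟩ := hall
  have hw4 : nP P (w : G) = 4 := (hval w hw).resolve_left hw2
  set S := Finset.univ.filter fun u : (P : Subgroup G) => u ≠ 1 ∧ nP P (u : G) = 2 with hS
  have hSmem : ∀ u, u ∈ S ↔ u ≠ 1 ∧ nP P (u : G) = 2 := fun u => by simp [S]
  have hScard : 4 ≤ S.card := by
    have h1 : (Finset.univ.filter fun v : (P : Subgroup G) => IsConj (w : G) v).card = 4 := by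
      rw [← Fintype.card_subtype, ← Nat.card_eq_fintype_card]; exact hw4
    have h2 : Finset.univ.erase 1 ⊆ S ∪ Finset.univ.filter fun v : (P : Subgroup G) => IsConj (w : G) v := by
      intro u hu
      have hu1 := (Finset.mem_erase.1 hu).1
      rcases hval u hu1 with h | h
      · exact Finset.mem_union_left _ ((hSmem u).2 ⟨hu1, h⟩)
      · exact Finset.mem_union_right _ (Finset.mem_filter.2 ⟨Finset.mem_univ _, hfour w u hw hu1 hw4 h⟩)
    have h3 := (Finset.card_le_card h2).trans (Finset.card_union_le _ _)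
    rw [Finset.card_erase_of_mem (Finset.mem_univ _), Finset.card_univ, ← Nat.card_eq_fintype_card,
      hcard, h1] at h3
    omega
  have hcube : ∀ u ∈ S, u ^ 3 = 1 := by
    intro u hu
    rw [hSmem] at hu
    by_contra h3'
    have h9 : orderOf u = 9 := by
      have hd : orderOf u ∣ 3 ^ 2 := by have := hcard ▸ orderOf_dvd_natCard u; simpa using this
      obtain ⟨i, hi, he⟩ := (Nat.dvd_prime_pow Nat.prime_three).1 hd
      interval_cases i
      · exact absurd (orderOf_eq_one_iff.1 (by simpa using he)) hu.1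
      · exact absurd (orderOf_dvd_iff_pow_eq_one.1 (by rw [he]; norm_num)) h3'
      · simpa using he
    have hgen : ∀ v : (P : Subgroup G), v ∈ Subgroup.zpowers u := by
      have : Subgroup.zpowers u = ⊤ := Subgroup.eq_top_of_card_eq _ (by rw [Nat.card_zpowers, h9, hcard])
      simp [this]
    obtain ⟨i, hi⟩ := Subgroup.mem_zpowers_iff.1 (hgen w)
    have hsub : ∀ v : (P : Subgroup G), IsConj (w : G) v → v = w ∨ v = w⁻¹ := by
      intro v hv
      obtain ⟨n, hn, he⟩ := exists_normalizer_conj hv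
      have e : conjP n hn w = v := Subtype.ext he
      rw [← e, ← hi, map_zpow]
      rcases hpair u hu.2 _ (conjP_isConj n hn u) with h | h <;> rw [h]
      · exact Or.inl rfl
      · exact Or.inr (inv_zpow u i)
    have hle : nP P (w : G) ≤ 2 := by
      rw [nP, Nat.card_eq_fintype_card, Fintype.card_subtype]
      refine (Finset.card_le_card (t := {w, w⁻¹}) fun v hv => ?_).trans Finset.card_le_two
      simpa using hsub v (Finset.mem_filter.1 hv).2
    omega
  obtain ⟨x, hx⟩ : S.Nonempty := Finset.card_pos.1 (by omega)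
  obtain ⟨y, hy, hy'⟩ : ∃ y ∈ S, y ∉ ({x, x⁻¹} : Finset (P : Subgroup G)) := by
    by_contra hh
    simp only [not_exists, not_and, not_not] at hh
    have := (Finset.card_le_card (t := {x, x⁻¹}) fun z hz => hh z hz).trans Finset.card_le_two
    omega
  simp only [Finset.mem_insert, Finset.mem_singleton, not_or] at hy'
  have ox := hcube x hx
  have oy := hcube y hy
  rw [hSmem] at hx hy
  have hyx : y ∉ Subgroup.zpowers x := not_mem_zpowers_of_cube ox hy.1 hy'.1 hy'.2
  have hxy : x ∉ Subgroup.zpowers y := not_mem_zpowers_of_cube oy hx.1 (Ne.symm hy'.1)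
    (fun e => hy'.2 (by rw [e, inv_inv]))
  obtain ⟨L, hLy, hLx⟩ := exists_hom hxy
  obtain ⟨M, hMx, hMy⟩ := exists_hom hyx
  have hord : ∀ (l : (P : Subgroup G) →* ℂˣ) (z : (P : Subgroup G)), z ^ 3 = 1 → l z ≠ 1 →
      orderOf (l z) = 3 := fun l z hz hl =>
    orderOf_eq_prime (by rw [← map_pow, hz, map_one]) hl
  have hinj : Function.Injective fun c : Fin 3 × Fin 3 => x ^ (c.1 : ℕ) * y ^ (c.2 : ℕ) := by
    rintro ⟨i, j⟩ ⟨i', j'⟩ e
    have e1 := congrArg L e
    have e2 := congrArg M e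
    simp only [map_mul, map_pow, hLy, hMx, one_pow, mul_one, one_mul] at e1 e2
    have h1 := pow_injOn_Iio_orderOf (x := L x) (by rw [Set.mem_Iio, hord L x ox hLx]; exact i.2)
      (by rw [Set.mem_Iio, hord L x ox hLx]; exact i'.2) e1
    have h2 := pow_injOn_Iio_orderOf (x := M y) (by rw [Set.mem_Iio, hord M y oy hMy]; exact j.2)
      (by rw [Set.mem_Iio, hord M y oy hMy]; exact j'.2) e2
    exact Prod.ext (Fin.ext h1) (Fin.ext h2)
  have hbij := (Fintype.bijective_iff_injective_and_card _).2 ⟨hinj, by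
    rw [← Nat.card_eq_fintype_card (α := (P : Subgroup G)), hcard]; rfl⟩
  have hinvs : ∀ z : (P : Subgroup G), z ^ 3 = 1 → z ^ 2 = z⁻¹ := fun z hz =>
    eq_inv_of_mul_eq_one_left (by rw [← pow_succ]; exact hz)
  have hninv : ∀ z : (P : Subgroup G), nP P ((z⁻¹ : (P : Subgroup G)) : G) = nP P (z : G) := by
    intro z
    refine Nat.card_congr ((Equiv.inv _).subtypeEquiv fun v => ?_)
    rw [isConj_iff, isConj_iff]
    refine exists_congr fun c => ?_
    simp only [Equiv.inv_apply, InvMemClass.coe_inv]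
    rw [← conj_inv, inv_eq_iff_eq_inv]
  have hsmall : ∀ z : (P : Subgroup G), z ^ 3 = 1 → nP P (z : G) = 2 → ∀ i : Fin 3, i ≠ 0 →
      nP P ((z ^ (i : ℕ) : (P : Subgroup G)) : G) = 2 := by
    intro z hz h2 i hi
    rcases (show (i : ℕ) = 1 ∨ (i : ℕ) = 2 by
      have := i.2; have := Fin.val_ne_of_ne hi; simp at this; omega) with h | h <;> rw [h]
    · rwa [pow_one]
    · rwa [hinvs z hz, hninv]
  have hSsub : S = {x, x⁻¹, y, y⁻¹} := by
    refine (Finset.eq_of_subset_of_card_le (fun z hz => ?_) ?_).symm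
    · simp only [Finset.mem_insert, Finset.mem_singleton] at hz
      rw [hSmem]
      rcases hz with rfl | rfl | rfl | rfl
      · exact hx
      · exact ⟨inv_ne_one.2 hx.1, (hninv x).trans hx.2⟩
      · exact hy
      · exact ⟨inv_ne_one.2 hy.1, (hninv y).trans hy.2⟩
    · have h4 : ({x, x⁻¹, y, y⁻¹} : Finset (P : Subgroup G)).card = 4 :=
        Finset.card_eq_four.2 ⟨x, x⁻¹, y, y⁻¹, hodd x hx.1, Ne.symm hy'.1,
          fun e => hy'.2 (by rw [e, inv_inv]), fun e => hy'.2 e.symm,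
          fun e => hy'.1 (inv_injective e).symm, hodd y hy.1, rfl⟩
      have hSu : S ∪ Finset.univ.filter (fun v : (P : Subgroup G) => IsConj (w : G) v) ⊆ Finset.univ.erase 1 := by
        intro z hz
        refine Finset.mem_erase.2 ⟨fun e => ?_, Finset.mem_univ _⟩
        subst e
        rcases Finset.mem_union.1 hz with h | h
        · exact ((hSmem 1).1 h).1 rfl
        · have := (Finset.mem_filter.1 h).2
          rw [OneMemClass.coe_one, isConj_one_left] at this
          exact hw (Subtype.ext this)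
      have hdis : Disjoint S (Finset.univ.filter fun v : (P : Subgroup G) => IsConj (w : G) v) := by
        rw [Finset.disjoint_left]
        intro z hz hz'
        have h2 := ((hSmem z).1 hz).2
        have hc := (Finset.mem_filter.1 hz').2
        have : nP P (w : G) = nP P (z : G) := Nat.card_congr (Equiv.subtypeEquivRight fun v =>
          ⟨fun e => hc.symm.trans e, fun e => hc.trans e⟩)
        omega
      have := Finset.card_le_card hSu
      have hcw : (Finset.univ.filter fun v : (P : Subgroup G) => IsConj (w : G) v).card = 4 := by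
        rw [← Fintype.card_subtype, ← Nat.card_eq_fintype_card]; exact hw4
      rw [Finset.card_union_of_disjoint hdis, hcw,
        Finset.card_erase_of_mem (Finset.mem_univ _), Finset.card_univ, ← Nat.card_eq_fintype_card,
        hcard] at this
      omega
  have hmixed : ∀ i j : Fin 3, i ≠ 0 → j ≠ 0 →
      nP P ((x ^ (i : ℕ) * y ^ (j : ℕ) : (P : Subgroup G)) : G) = 4 := by
    intro i j hi hj
    set z := x ^ (i : ℕ) * y ^ (j : ℕ) with hz
    have key : ∀ c : Fin 3 × Fin 3, z = x ^ (c.1 : ℕ) * y ^ (c.2 : ℕ) → (i, j) = c :=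
      fun c e => hinj (a₁ := (i, j)) e
    have hz1 : z ≠ 1 := fun e => hi (congrArg Prod.fst (key (0, 0) (by simp [e])))
    refine (hval z hz1).resolve_left fun h2 => ?_
    have hzS : z ∈ ({x, x⁻¹, y, y⁻¹} : Finset (P : Subgroup G)) := hSsub ▸ (hSmem z).2 ⟨hz1, h2⟩
    simp only [Finset.mem_insert, Finset.mem_singleton] at hzS
    rcases hzS with e | e | e | e
    · exact hj (congrArg Prod.snd (key (1, 0) (by simp [e])))
    · exact hj (congrArg Prod.snd (key (2, 0) (by simp [e, hinvs x ox])))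
    · exact hi (congrArg Prod.fst (key (0, 1) (by simp [e])))
    · exact hi (congrArg Prod.fst (key (0, 2) (by simp [e, hinvs y oy])))
  have hmix : ∀ i j i' j' : Fin 3, i ≠ 0 → j ≠ 0 → i' ≠ 0 → j' ≠ 0 →
      IsConj ((x ^ (i : ℕ) * y ^ (j : ℕ) : (P : Subgroup G)) : G)
        ((x ^ (i' : ℕ) * y ^ (j' : ℕ) : (P : Subgroup G)) : G) := by
    intro i j i' j' hi hj hi' hj'
    have hne : ∀ a b : Fin 3, a ≠ 0 → x ^ (a : ℕ) * y ^ (b : ℕ) ≠ 1 := fun a b ha e =>
      ha (congrArg Prod.fst (hinj (a₁ := (a, b)) (a₂ := (0, 0)) (by simpa using e)))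
    exact hfour _ _ (hne i j hi) (hne i' j' hi') (hmixed i j hi hj) (hmixed i' j' hi' hj')
  refine ⟨x, y, ox, oy, hbij, hpair x hx.2, hpair y hy.2, hsmall x ox hx.2, hsmall y oy hy.2,
    hmixed, ?_, ?_⟩
  · simpa [hinvs y oy] using hmix 1 1 1 2 (by decide) (by decide) (by decide) (by decide)
  · simpa [hinvs x ox] using hmix 1 1 2 1 (by decide) (by decide) (by decide) (by decide)

omit [IsSimpleGroup G] in
theorem Split.mu_mixed {x y : (P : Subgroup G)} (h : Split P x y) (i j : Fin 3) (hi : i ≠ 0)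
    (hj : j ≠ 0) {n : G} (hn : n ∈ Subgroup.normalizer ((P : Subgroup G) : Set G))
    (hnu : n * ((x ^ (i : ℕ) * y ^ (j : ℕ) : (P : Subgroup G)) : G) =
      ((x ^ (i : ℕ) * y ^ (j : ℕ) : (P : Subgroup G)) : G) * n) (v : (P : Subgroup G)) :
    conjP n hn v = v := by
  have e := conjP_of_comm hn hnu
  rw [map_mul, map_pow, map_pow] at e
  have hi2 : x ^ 2 = x⁻¹ := eq_inv_of_mul_eq_one_left (by rw [← pow_succ]; exact h.ox)
  have hj2 : y ^ 2 = y⁻¹ := eq_inv_of_mul_eq_one_left (by rw [← pow_succ]; exact h.oy)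
  obtain ⟨a, ha0, ha⟩ : ∃ a : Fin 3, a ≠ 0 ∧ conjP n hn x = x ^ (a : ℕ) := by
    rcases h.cx _ (conjP_isConj n hn x) with h' | h'
    · exact ⟨1, by decide, by simp [h']⟩
    · exact ⟨2, by decide, by simp [h', hi2]⟩
  obtain ⟨b, hb0, hb⟩ : ∃ b : Fin 3, b ≠ 0 ∧ conjP n hn y = y ^ (b : ℕ) := by
    rcases h.cy _ (conjP_isConj n hn y) with h' | h'
    · exact ⟨1, by decide, by simp [h']⟩
    · exact ⟨2, by decide, by simp [h', hj2]⟩
  rw [ha, hb, ← pow_mul, ← pow_mul, pow_eq_pow_mod _ h.ox, pow_eq_pow_mod ((b : ℕ) * (j : ℕ)) h.oy] at e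
  have e' := h.bij.injective (a₁ := (⟨(a : ℕ) * (i : ℕ) % 3, Nat.mod_lt _ (by norm_num)⟩,
    ⟨(b : ℕ) * (j : ℕ) % 3, Nat.mod_lt _ (by norm_num)⟩)) (a₂ := (i, j)) e
  rw [Prod.mk.injEq] at e'
  have key : ∀ a i : Fin 3, (a : ℕ) * (i : ℕ) % 3 = (i : ℕ) → i ≠ 0 → a ≠ 0 → a = 1 := by decide
  have ha1 : a = 1 := key a i (congrArg Fin.val e'.1) hi ha0
  have hb1 : b = 1 := key b j (congrArg Fin.val e'.2) hj hb0
  subst ha1; subst hb1
  obtain ⟨⟨c, d⟩, rfl⟩ := h.bij.surjective v
  simp [ha, hb]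

end CfsgLib.PSection
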