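import Cfsg.Agent.Lib.PSection.Fusion
import Cfsg.Agent.Lib.CharDeep.ClassSum
import Cfsg.Agent.Lib.PrimeDegrees.Basic
import Cfsg.Agent.Lib.SelfCentNoncyclic.Shape

/-!
# Self-centralising subgroups of order seven
-/

set_option autoImplicit false

open scoped ComplexConjugate IsMulCommutative

namespace CfsgLib.PSection

universe u

variable {G : Type u} [Group G] [Fintype G]

theorem degree_ne_one [IsSimpleGroup G] (hG : ¬ IsMulCommutative G) {χ : Cfsg.IrrCharacter G}
    (hχ : χ ≠ Char.principalIrr) : Cfsg.charDegree (χ : G → ℂ) ≠ 1 := by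
  intro h
  obtain ⟨f, hf⟩ := Char.IsCharacter.exists_linear (Char.IsIrrCharacter.isCharacter χ.2)
    (by rw [Blk83.one_eq χ, h, Nat.cast_one])
  rcases (MonoidHom.normal_ker f).eq_bot_or_eq_top with hb | ht
  · exact hG ⟨⟨fun a b => (MonoidHom.ker_eq_bot_iff f).1 hb (by rw [map_mul, map_mul, mul_comm])⟩⟩
  · refine hχ (Subtype.ext (funext fun g => ?_))
    rw [hf, Char.principalIrr_apply, MonoidHom.mem_ker.1 (ht ▸ Subgroup.mem_top g), Units.val_one]

theorem not_sq_twentyseven {z : ℤ} {m : ℕ} (hm : ¬ 3 ∣ m) (h : z ^ 2 = 27 * (m : ℤ)) : False := by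
  obtain ⟨w, rfl⟩ : (3 : ℤ) ∣ z := Int.prime_three.dvd_of_dvd_pow (n := 2) ⟨9 * m, by linarith⟩
  obtain ⟨v, rfl⟩ : (3 : ℤ) ∣ w := Int.prime_three.dvd_of_dvd_pow (n := 2) ⟨m, by ring_nf at h ⊢; linarith⟩
  exact hm (Int.natCast_dvd_natCast.1 (⟨v ^ 2, by ring_nf at h ⊢; linarith⟩ : ((3 : ℕ) : ℤ) ∣ (m : ℤ)))

variable [IsSimpleGroup G]

set_option maxHeartbeats 1000000 in
theorem card_eq_of_seven (hG : ¬ IsMulCommutative G) {a : ℕ} (hcard : Nat.card G = 9 * 2 ^ a * 7)
    (ha : 8 ∣ Nat.card G) {x : G} (hx : orderOf x = 7) (hA : CA.SelfCent (Subgroup.zpowers x)) :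
    Nat.card G = 504 := by
  classical
  haveI : Fact (Nat.Prime 7) := ⟨by norm_num⟩
  have hna := SelfCentNoncyclic.center_eq_bot hG
  have h7 : ¬ 7 ∣ 9 * 2 ^ a := by
    intro h
    rcases (Nat.Prime.dvd_mul (by norm_num : Nat.Prime 7)).1 h with h | h
    · norm_num at h
    · have := (Nat.prime_dvd_prime_iff_eq (by norm_num : Nat.Prime 7) Nat.prime_two).1
        ((by norm_num : Nat.Prime 7).dvd_of_dvd_pow h)
      norm_num at this
  obtain ⟨P, hxP⟩ := (IsPGroup.of_card (p := 7) (n := 1) (G := Subgroup.zpowers x)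
    (by rw [Nat.card_zpowers, hx, pow_one])).exists_le_sylow
  have hP : Nat.card (P : Subgroup G) = 7 := by
    obtain ⟨n, hn⟩ := P.isPGroup'.exists_card_eq
    have hd := Subgroup.card_subgroup_dvd_card (P : Subgroup G)
    rw [hn, hcard] at hd
    have h1 : 7 ∣ Nat.card (P : Subgroup G) := by
      have := Subgroup.card_dvd_of_le hxP
      rwa [Nat.card_zpowers, hx] at this
    rcases n with _ | _ | n
    · rw [hn] at h1; norm_num at h1
    · rw [hn]; norm_num
    · exfalso
      refine h7 (Nat.dvd_of_mul_dvd_mul_right (by norm_num : 0 < 7) ?_)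
      exact dvd_trans ⟨7 ^ n, by ring⟩ hd
  have hzP : Subgroup.zpowers x = P :=
    Subgroup.eq_of_le_of_card_ge hxP (by rw [hP, Nat.card_zpowers, hx])
  rw [hzP] at hA
  haveI : IsMulCommutative (P : Subgroup G) :=
    ⟨⟨fun u v => Subtype.ext (hA.comm u.2 v.2)⟩⟩
  haveI := Fintype.ofFinite (P : Subgroup G)
  obtain ⟨k, hk⟩ := exists_expo P
  set N := Subgroup.normalizer ((P : Subgroup G) : Set G) with hN
  set d := (((P : Subgroup G)).subgroupOf N).index with hd
  have hNcard : Nat.card N = 7 * d := by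
    rw [hd, ← Subgroup.card_mul_index ((P : Subgroup G).subgroupOf N),
      Nat.card_congr (Subgroup.subgroupOfEquivOfLe Subgroup.le_normalizer).toEquiv, hP]
  -- every orbit on nonidentity elements has size `d`
  have hnP : ∀ u : (P : Subgroup G), u ≠ 1 → nP P (u : G) = d := by
    intro u hu
    let f : N → {v : (P : Subgroup G) // IsConj (u : G) v} := fun n =>
      ⟨⟨(n : G) * u * (n : G)⁻¹, (Subgroup.mem_normalizer_iff.1 n.2 _).1 u.2⟩,
        isConj_iff.2 ⟨n, rfl⟩⟩
    rw [hd, Subgroup.index]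
    refine (Nat.card_congr (Equiv.ofBijective
      (Quotient.lift f (fun m n hmn => ?_) : _ → _) ⟨?_, ?_⟩)).symm
    · replace hmn := Subgroup.mem_subgroupOf.1 (QuotientGroup.leftRel_apply.1 hmn)
      have hc := hA.comm hmn u.2
      refine Subtype.ext (Subtype.ext ?_)
      show (m : G) * u * (m : G)⁻¹ = (n : G) * u * (n : G)⁻¹
      calc (m : G) * u * (m : G)⁻¹
          = (m : G) * (((m⁻¹ * n : N) : G) * u * ((m⁻¹ * n : N) : G)⁻¹) * (m : G)⁻¹ := by
            rw [hc]; group
        _ = (n : G) * u * (n : G)⁻¹ := by rw [Subgroup.coe_mul, Subgroup.coe_inv]; group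
    · intro p q
      refine Quotient.inductionOn₂ p q fun m n hmn => Quotient.sound
        (QuotientGroup.leftRel_apply.2 (Subgroup.mem_subgroupOf.2 ?_))
      refine hA.mem_of_commute u.2 (fun e => hu (Subtype.ext e)) ?_
      have e : (m : G) * u * (m : G)⁻¹ = (n : G) * u * (n : G)⁻¹ :=
        congrArg (fun w : {v : (P : Subgroup G) // IsConj (u : G) v} => ((w.1 : (P : Subgroup G)) : G)) hmn
      rw [Subgroup.coe_mul, Subgroup.coe_inv]
      calc (m : G)⁻¹ * n * u = (m : G)⁻¹ * ((n : G) * u * (n : G)⁻¹) * n := by group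
        _ = u * ((m : G)⁻¹ * n) := by rw [← e]; group
    · intro v
      obtain ⟨n, hn, he⟩ := exists_normalizer_conj v.2
      exact ⟨Quotient.mk'' ⟨n, hn⟩, Subtype.ext (Subtype.ext he)⟩
  have hd2 : d = 2 ∧ 2 ^ a % 7 = 1 := by
    have hx1 : (⟨x, hxP (Subgroup.mem_zpowers x)⟩ : (P : Subgroup G)) ≠ 1 := fun e => by
      have : x = 1 := congrArg Subtype.val e
      rw [this, orderOf_one] at hx; norm_num at hx
    set X : (P : Subgroup G) := ⟨x, hxP (Subgroup.mem_zpowers x)⟩
    have h2 := two_le_nP hG hx1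
    rw [hnP X hx1] at h2
    have hsix : (Finset.univ.erase (1 : (P : Subgroup G))).card = 6 := by
      rw [Finset.card_erase_of_mem (Finset.mem_univ _), Finset.card_univ, ← Nat.card_eq_fintype_card, hP]
    have hsub : ∀ u : (P : Subgroup G), u ≠ 1 →
        (Finset.univ.filter fun v : (P : Subgroup G) => IsConj (u : G) v) ⊆ Finset.univ.erase 1 := by
      intro u hu v hv
      refine Finset.mem_erase.2 ⟨fun e => ?_, Finset.mem_univ _⟩
      subst e
      have := (Finset.mem_filter.1 hv).2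
      rw [OneMemClass.coe_one, isConj_one_left] at this
      exact hu (Subtype.ext this)
    have hcl : ∀ u : (P : Subgroup G), u ≠ 1 →
        (Finset.univ.filter fun v : (P : Subgroup G) => IsConj (u : G) v).card = d := by
      intro u hu
      rw [← Fintype.card_subtype, ← Nat.card_eq_fintype_card]; exact hnP u hu
    have hle : d ≤ 6 := by
      rw [← hcl X hx1, ← hsix]; exact Finset.card_le_card (hsub X hx1)
    have hidx := card_sylow_modEq_one 7 G
    rw [P.card_eq_index_normalizer] at hidx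
    change N.index ≡ 1 [MOD 7] at hidx
    have hprod : d * N.index = 9 * 2 ^ a := by
      have := Subgroup.card_mul_index N
      rw [hNcard, hcard] at this
      linarith
    have hmod : d % 7 = 9 * 2 ^ a % 7 := by
      rw [← hprod, Nat.mul_mod, show N.index % 7 = 1 % 7 from hidx]
      simp
    have h4 : d ≠ 4 := by
      intro h
      have hX4 := hcl X hx1
      rw [h] at hX4
      obtain ⟨v, hv, hv'⟩ : ∃ v ∈ Finset.univ.erase (1 : (P : Subgroup G)),
          v ∉ Finset.univ.filter fun v : (P : Subgroup G) => IsConj (X : G) v :=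
        Finset.exists_mem_notMem_of_card_lt_card (by omega)
      have hv1 := (Finset.mem_erase.1 hv).1
      have := Finset.card_le_card (Finset.union_subset (hsub X hx1) (hsub v hv1))
      rw [Finset.card_union_of_disjoint, hX4, hcl v hv1, hsix] at this
      · omega
      · rw [Finset.disjoint_left]
        intro w hw hw'
        exact hv' (Finset.mem_filter.2 ⟨Finset.mem_univ _,
          (Finset.mem_filter.1 hw).2.trans (Finset.mem_filter.1 hw').2.symm⟩)
    have h1 : 2 ^ a % 7 = 1 ∨ 2 ^ a % 7 = 2 ∨ 2 ^ a % 7 = 4 := by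
      conv => rw [← Nat.div_add_mod a 3, pow_add, pow_mul, Nat.mul_mod, Nat.pow_mod]
      norm_num
      have : a % 3 < 3 := Nat.mod_lt _ (by norm_num)
      interval_cases a % 3 <;> norm_num
    rw [Nat.mul_mod] at hmod
    rcases h1 with h1 | h1 | h1 <;> rw [h1] at hmod <;> constructor <;> omega
  obtain ⟨hd2, ha7⟩ := hd2
  rw [hd2] at hnP hNcard
  have hfus : ∀ u v : (P : Subgroup G), IsConj (u : G) v → v = u ∨ v = u⁻¹ := by
    intro u v huv
    by_cases hu : u = 1
    · subst hu
      rw [OneMemClass.coe_one, isConj_one_right] at huv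
      exact Or.inl (Subtype.ext huv)
    · exact eq_or_eq_inv_of_nP_two hG u v (hnP u hu) huv
  obtain ⟨t0, ht0⟩ := exists_prime_orderOf_dvd_card' 2 (show 2 ∣ Nat.card N by rw [hNcard]; norm_num)
  set t : G := (t0 : G) with ht
  have hto : orderOf t = 2 := (Subgroup.orderOf_coe t0).trans ht0
  have htP : t ∉ (P : Subgroup G) := fun h => by
    have := orderOf_dvd_natCard (⟨t, h⟩ : (P : Subgroup G))
    rw [← Subgroup.orderOf_coe, hto, hP] at this
    norm_num at this
  have hinv : ∀ u : (P : Subgroup G), t * (u : G) * t⁻¹ = ((u⁻¹ : (P : Subgroup G)) : G) := by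
    intro u
    by_cases hu : u = 1
    · simp [hu]
    have hmem : t * (u : G) * t⁻¹ ∈ (P : Subgroup G) := (Subgroup.mem_normalizer_iff.1 t0.2 _).1 u.2
    rcases hfus u ⟨_, hmem⟩ (isConj_iff.2 ⟨t, rfl⟩) with e | e
    · refine absurd (hA.mem_of_commute u.2 (fun h => hu (Subtype.ext h)) ?_) htP
      have e' : t * (u : G) * t⁻¹ = u := congrArg Subtype.val e
      calc t * (u : G) = t * u * t⁻¹ * t := by group
        _ = u * t := by rw [e']
    · exact congrArg Subtype.val e
  have hI : InvFusion P := by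
    refine ⟨fun u => isConj_iff.2 ⟨t, hinv u⟩, hfus, fun u hu => ?_⟩
    exact mu_eq_inv_card P u.2 fun n _ hnu v hv => hA.comm
      (hA.mem_of_commute u.2 (fun h => hu (Subtype.ext h)) hnu) hv
  have hPc : Fintype.card (P : Subgroup G) = 2 * 3 + 1 := by rw [← Nat.card_eq_fintype_card, hP]
  haveI : Finite ((P : Subgroup G) →* ℂˣ) := Nat.finite_of_card_ne_zero (by rw [card_dual]; omega)
  haveI : Nontrivial ((P : Subgroup G) →* ℂˣ) :=
    Finite.one_lt_card_iff_nontrivial.1 (by rw [card_dual]; omega)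
  obtain ⟨l0, hl0⟩ := exists_ne (1 : (P : Subgroup G) →* ℂˣ)
  obtain ⟨L, -, hL1, hL, hsum⟩ := exists_family hPc l0 hl0 (by norm_num)
  obtain ⟨hg, hpr, hdot, hSg, hScoef, hSX⟩ :=
    hI.exists_coeff (by decide) hk hPc (by norm_num) L hL1 hL hsum
  obtain ⟨A, B, e, f, h0⟩ := hpr 0
  set θ := ext P k (phi (L 0)) with hθ
  have hst := hI.stable (L 0)
  have hX : ∀ g y : G, (7 ∣ orderOf (y * g * y⁻¹)) ↔ (7 ∣ orderOf g) := fun g y => by
    rw [show orderOf (y * g * y⁻¹) = orderOf g from orderOf_injective (MulAut.conj y).toMonoidHom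
      (MulAut.conj y).injective g]
  have hidxP : (P : Subgroup G).index = 9 * 2 ^ a := by
    have := Subgroup.card_mul_index (P : Subgroup G)
    rw [hP, hcard] at this
    linarith
  have hS : ∀ {C D : Cfsg.IrrCharacter G} {c d' : ℤ}, Pr (coef θ) Char.principalIrr C D c d' →
      Cfsg.charDegree (C : G → ℂ) ∣ 9 * 2 ^ a := by
    intro C D c d' h
    obtain ⟨A₁, B₁, e₁, f₁, h₁⟩ := hpr 1
    obtain ⟨A₂, B₂, e₂, f₂, h₂⟩ := hpr 2
    have k₁ := h.hit h₁ (hdot 0 1 (by decide))
    have k₂ := h.hit h₂ (hdot 0 2 (by decide))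
    have hne : ¬ (7 : ℤ) ∣ ∑ i, coef (ext P k (phi (L i))) C := by
      rw [Fin.sum_univ_three, h.eA]
      rcases h.he with he | he <;> rcases k₁ with ⟨u1, -⟩ | ⟨u1, -⟩ <;>
        rcases k₂ with ⟨u2, -⟩ | ⟨u2, -⟩ <;> rw [u1, u2, he] <;> norm_num
    have hnd : ¬ 7 ∣ Cfsg.charDegree (C : G → ℂ) :=
      not_dvd_degree hX (n := Fintype.card (P : Subgroup G)) (m := (P : Subgroup G).index)
        (by norm_num) Fintype.card_ne_zero
        (by rw [← Nat.card_eq_fintype_card, Subgroup.card_mul_index]) P.not_dvd_index hSg hSX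
        (by rw [hScoef]; exact_mod_cast hne)
    have := Blk83.deg_dvd C
    rw [hcard] at this
    exact (((by norm_num : Nat.Prime 7).coprime_iff_not_dvd.2 hnd).symm).dvd_of_dvd_mul_right this
  have hrel : ∀ g, θ g = 1 + (e : ℂ) * (A : G → ℂ) g + (f : ℂ) * (B : G → ℂ) g := h0.apply_eq (hg 0)
  -- pairs of conjugate involutions with a product of order divisible by seven
  have hpairs : ∀ s : G, orderOf s = 2 → ∀ g : G, θ g ≠ 0 →
      ((Finset.univ.filter (IsConj s)).filter fun y => IsConj s (y * g)).card =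
        if IsConj s t then 7 else 0 := by
    intro s hs g hgθ
    obtain ⟨u, hu⟩ := exists_conj_mem (pow_card_pow hk g)
    have hu1 : u ≠ 1 := fun h => hgθ (by rw [hθ, ext_apply hst hu, h, phi_one])
    obtain ⟨c, hc⟩ := isConj_iff.1 hu
    have hgu : c * g * c⁻¹ = u := by
      have hcm : c * g * c⁻¹ ∈ (P : Subgroup G) := by
        refine hA.mem_of_commute u.2 (fun h => hu1 (Subtype.ext h)) ?_
        rw [← hc]
        have hgk : g * g ^ k = g ^ k * g := ((Commute.refl g).pow_right k).eq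
        calc c * g * c⁻¹ * (c * g ^ k * c⁻¹) = c * (g * g ^ k) * c⁻¹ := by group
          _ = c * (g ^ k * g) * c⁻¹ := by rw [hgk]
          _ = c * g ^ k * c⁻¹ * (c * g * c⁻¹) := by group
      rw [← hc, ← pow_eq_self hk (pow_card_of_mem hcm), conj_pow]
    have hgP : g = c⁻¹ * (u : G) * c := by rw [← hgu]; group
    set s0 := c⁻¹ * t * c with hs0
    have hs0t : IsConj t s0 := isConj_iff.2 ⟨c⁻¹, by rw [hs0]; group⟩
    have hs0v : ∀ v : (P : Subgroup G), s0 * (c⁻¹ * (v : G) * c) * s0⁻¹ = c⁻¹ * ((v⁻¹ : (P : Subgroup G)) : G) * c := by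
      intro v; rw [hs0, ← hinv v]; group
    have hin : ∀ y : G, y ^ 2 = 1 → (y * g) ^ 2 = 1 → ∃ v : (P : Subgroup G), y = s0 * (c⁻¹ * (v : G) * c) := by
      intro y hy hyg
      have hyi : y⁻¹ = y := inv_eq_of_mul_eq_one_right (by rw [← pow_two]; exact hy)
      have hyg' : y * g * y⁻¹ = g⁻¹ := by
        rw [hyi]; refine eq_inv_of_mul_eq_one_left ?_
        rw [pow_two] at hyg
        calc y * g * y * g = (y * g) * (y * g) := by group
          _ = 1 := hyg
      have hw : c * (s0⁻¹ * y) * c⁻¹ ∈ (P : Subgroup G) := by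
        refine hA.mem_of_commute u.2 (fun h => hu1 (Subtype.ext h)) ?_
        have h1 : s0⁻¹ * y * g * y⁻¹ * s0 = g := by
          calc s0⁻¹ * y * g * y⁻¹ * s0 = s0⁻¹ * (y * g * y⁻¹) * s0 := by group
            _ = s0⁻¹ * (c⁻¹ * ((u⁻¹ : (P : Subgroup G)) : G) * c) * s0 := by
              rw [hyg', hgP, InvMemClass.coe_inv]; group
            _ = g := by rw [← hs0v u, hgP]; group
        rw [← hgu]
        calc c * (s0⁻¹ * y) * c⁻¹ * (c * g * c⁻¹) = c * (s0⁻¹ * y * g * y⁻¹ * s0) * (s0⁻¹ * y) * c⁻¹ := by group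
          _ = c * g * c⁻¹ * (c * (s0⁻¹ * y) * c⁻¹) := by rw [h1]; group
      exact ⟨⟨_, hw⟩, by group⟩
    have hcl : ∀ v : (P : Subgroup G), IsConj t (s0 * (c⁻¹ * (v : G) * c)) := by
      intro v
      refine hs0t.trans (isConj_iff.2 ⟨(c⁻¹ * ((v ^ 4 : (P : Subgroup G)) : G) * c)⁻¹, ?_⟩)
      set z := c⁻¹ * ((v ^ 4 : (P : Subgroup G)) : G) * c with hz
      have hzz : z * z = c⁻¹ * (v : G) * c := by
        have h8 : ((v ^ 4 : (P : Subgroup G)) : G) * ((v ^ 4 : (P : Subgroup G)) : G) = v := by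
          rw [← Subgroup.coe_mul, ← pow_add, pow_succ, show v ^ 7 = 1 by have h7' := pow_card_eq_one' (x := v); rwa [hP] at h7', one_mul]
        rw [← h8, hz]; group
      have hsz : s0 * z * s0⁻¹ = z⁻¹ := by
        rw [hz, hs0v, InvMemClass.coe_inv]; group
      rw [← hzz, inv_inv]
      calc z⁻¹ * s0 * z = s0 * z * s0⁻¹ * s0 * z := by rw [hsz]
        _ = s0 * (z * z) := by group
    have hsq : ∀ y, IsConj s y → y ^ 2 = 1 := by
      intro y hy
      obtain ⟨b, rfl⟩ := isConj_iff.1 hy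
      rw [conj_pow, ← hs, pow_orderOf_eq_one]; group
    split_ifs with hst'
    · rw [← hP, Nat.card_eq_fintype_card, ← Finset.card_univ]
      symm
      refine Finset.card_bij (fun v _ => s0 * (c⁻¹ * (v : G) * c)) (fun v _ => ?_) (fun v _ w _ h => ?_)
        (fun y hy => ?_)
      · simp only [Finset.mem_filter, Finset.mem_univ, true_and]
        refine ⟨hst'.trans (hcl v), ?_⟩
        rw [hgP, show s0 * (c⁻¹ * (v : G) * c) * (c⁻¹ * (u : G) * c) =
          s0 * (c⁻¹ * ((v * u : (P : Subgroup G)) : G) * c) by rw [Subgroup.coe_mul]; group]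
        exact hst'.trans (hcl (v * u))
      · exact Subtype.ext (mul_left_cancel (mul_right_cancel (mul_left_cancel h)))
      · simp only [Finset.mem_filter, Finset.mem_univ, true_and] at hy
        obtain ⟨v, hv⟩ := hin y (hsq y hy.1) (hsq _ hy.2)
        exact ⟨v, Finset.mem_univ _, hv.symm⟩
    · rw [Finset.card_eq_zero, Finset.eq_empty_iff_forall_notMem]
      intro y hy
      simp only [Finset.mem_filter, Finset.mem_univ, true_and] at hy
      obtain ⟨v, hv⟩ := hin y (hsq y hy.1) (hsq _ hy.2)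
      exact hst' (hy.1.trans (hv ▸ (hcl v).symm))
  have hsumθ : ∑ g, θ g = (Nat.card G : ℂ) := by
    have := classInner_eq_coef (hg 0) Char.principalIrr
    rw [h0.ho, Cfsg.classInner] at this
    simp only [Char.principalIrr_apply, map_one, mul_one, Int.cast_one] at this
    exact (inv_mul_eq_iff_eq_mul₀ (Nat.cast_ne_zero.2 Nat.card_pos.ne')).1 this |>.trans (mul_one _)
  have hcount : ∀ s : G, orderOf s = 2 →
      (if IsConj s t then (7 : ℂ) else 0) * (Nat.card G : ℂ) =
        ((Finset.univ.filter (IsConj s)).card : ℂ) ^ 2 *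
          (1 + (e : ℂ) * ((A : G → ℂ) s * (A : G → ℂ) s / (A : G → ℂ) 1) +
            (f : ℂ) * ((B : G → ℂ) s * (B : G → ℂ) s / (B : G → ℂ) 1)) := by
    intro s hs
    set K := Finset.univ.filter (IsConj s) with hK
    have hKinv : ∀ y ∈ K, y * y = 1 := by
      intro y hy
      obtain ⟨b, rfl⟩ := isConj_iff.1 (Finset.mem_filter.1 hy).2
      rw [← pow_two, conj_pow, ← hs, pow_orderOf_eq_one]; group
    have hL' : ∑ y ∈ K, ∑ z ∈ K, θ (y * z) = (if IsConj s t then (7 : ℂ) else 0) * (Nat.card G : ℂ) := by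
      calc ∑ y ∈ K, ∑ z ∈ K, θ (y * z) = ∑ y ∈ K, ∑ g : G, if IsConj s (y * g) then θ g else 0 := by
            refine Finset.sum_congr rfl fun y hy => ?_
            rw [hK, Finset.sum_filter]
            refine Fintype.sum_equiv (Equiv.mulLeft y) _ _ fun z => ?_
            simp only [Equiv.coe_mulLeft]
            have e' : y * (y * z) = z := by rw [← mul_assoc, hKinv y (by rw [hK] at *; exact hy), one_mul]
            simp only [e']
        _ = ∑ g : G, ∑ y ∈ K, if IsConj s (y * g) then θ g else 0 := Finset.sum_comm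
        _ = ∑ g : G, (if IsConj s t then (7 : ℂ) else 0) * θ g := by
            refine Finset.sum_congr rfl fun g _ => ?_
            by_cases hgθ : θ g = 0
            · simp [hgθ]
            · rw [← Finset.sum_filter, Finset.sum_const, nsmul_eq_mul, hK, hpairs s hs g hgθ]
              split_ifs <;> norm_num
        _ = _ := by rw [← Finset.mul_sum, hsumθ]
    rw [← hL']
    simp only [hrel, Finset.sum_add_distrib, ← Finset.mul_sum]
    rw [hK, CharDeep.ClassSum.sum_char_mul A s s, CharDeep.ClassSum.sum_char_mul B s s, Finset.sum_const,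
      nsmul_eq_mul, Finset.sum_const, nsmul_eq_mul]
    ring
  -- the degrees
  have hdA := hS h0
  have hdB := hS h0.symm
  have hA1 := degree_ne_one hG h0.hA
  have hB1 := degree_ne_one hG h0.hB
  have h1 : 1 + e * (Cfsg.charDegree (A : G → ℂ) : ℤ) + f * (Cfsg.charDegree (B : G → ℂ) : ℤ) = 0 := by
    have := hrel 1
    rw [hθ, ext_one hst, phi_one, Blk83.one_eq, Blk83.one_eq] at this
    exact_mod_cast this.symm
  obtain ⟨C, D, hCD, hC, hD, hC1, hD1, hCp, hrel'⟩ : ∃ C D : Cfsg.IrrCharacter G,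
      Cfsg.charDegree (D : G → ℂ) = Cfsg.charDegree (C : G → ℂ) + 1 ∧
      Cfsg.charDegree (C : G → ℂ) ∣ 9 * 2 ^ a ∧ Cfsg.charDegree (D : G → ℂ) ∣ 9 * 2 ^ a ∧
      Cfsg.charDegree (C : G → ℂ) ≠ 1 ∧ Cfsg.charDegree (D : G → ℂ) ≠ 1 ∧ C ≠ Char.principalIrr ∧
      ∀ g, (1 + (e : ℂ) * (A : G → ℂ) g + (f : ℂ) * (B : G → ℂ) g =
        1 + (C : G → ℂ) g - (D : G → ℂ) g) ∧
        1 + (e : ℂ) * ((A : G → ℂ) g * (A : G → ℂ) g / (A : G → ℂ) 1) +
            (f : ℂ) * ((B : G → ℂ) g * (B : G → ℂ) g / (B : G → ℂ) 1) =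
        1 + (C : G → ℂ) g * (C : G → ℂ) g / (C : G → ℂ) 1 -
          (D : G → ℂ) g * (D : G → ℂ) g / (D : G → ℂ) 1 := by
    have pA := Blk83.deg_pos A
    have pB := Blk83.deg_pos B
    rcases h0.he with he | he <;> rcases h0.hf with hf | hf <;> rw [he, hf] at h1 ⊢
    · exfalso; omega
    · exact ⟨A, B, by omega, hdA, hdB, hA1, hB1, h0.hA, fun g => ⟨by push_cast; ring, by push_cast; ring⟩⟩
    · exact ⟨B, A, by omega, hdB, hdA, hB1, hA1, h0.hB, fun g => ⟨by push_cast; ring, by push_cast; ring⟩⟩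
    · exfalso; omega
  set m := Cfsg.charDegree (C : G → ℂ) with hm
  have hval : ∀ s : G, orderOf s = 2 → ∃ z : ℤ, (C : G → ℂ) s = z ∧
      (if IsConj s t then (7 : ℤ) else 0) * (Nat.card G : ℤ) * ((m : ℤ) * (m + 1)) =
        (((Finset.univ.filter (IsConj s)).card : ℤ) * (z - m)) ^ 2 := by
    intro s hs
    obtain ⟨z, hz⟩ : ∃ z : ℤ, (C : G → ℂ) s = z := by
      obtain ⟨d', ρ, hρ, hρC⟩ := C.2
      obtain ⟨μ, hμ, -, -, hpow⟩ := Char.exists_eigenvalues ρ s
      rw [← hρC, show s = s ^ 1 from (pow_one s).symm, hpow 1]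
      have : ∀ i, ∃ z : ℤ, μ i ^ 1 = z := fun i => by
        have h2 := hμ i
        rw [hs] at h2
        rcases sq_eq_one_iff.mp h2 with h | h
        · exact ⟨1, by simp [h]⟩
        · exact ⟨-1, by simp [h]⟩
      choose w hw using this
      exact ⟨∑ i, w i, by simp only [hw]; push_cast; rfl⟩
    have hθs : θ s = 0 := by
      rw [hθ, ext_regular hk hst (by rw [hs]; norm_num), phi_one]
    rw [hrel, (hrel' s).1] at hθs
    have hDs : (D : G → ℂ) s = (z : ℂ) + 1 := by rw [← hz]; linear_combination -hθs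
    refine ⟨z, hz, ?_⟩
    have h := hcount s hs
    rw [(hrel' s).2, hDs, hz, Blk83.one_eq C, Blk83.one_eq D, hCD, ← hm] at h
    have hm0 : (m : ℂ) ≠ 0 := Nat.cast_ne_zero.2 (Blk83.deg_pos C).ne'
    have hm1 : (m : ℂ) + 1 ≠ 0 := by exact_mod_cast Nat.succ_ne_zero m
    push_cast at h
    field_simp at h
    have hc : (((if IsConj s t then (7 : ℤ) else 0) * (Nat.card G : ℤ) * ((m : ℤ) * (m + 1)) : ℤ) : ℂ) =
        (((((Finset.univ.filter (IsConj s)).card : ℤ) * (z - m)) ^ 2 : ℤ) : ℂ) := by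
      split_ifs at h ⊢ <;> push_cast <;> linear_combination h
    exact_mod_cast hc
  obtain ⟨z, hz, hzeq⟩ := hval t hto
  rw [if_pos (IsConj.refl t), hcard] at hzeq
  have h2a : ¬ 3 ∣ 2 ^ a := fun h => by
    have := Nat.prime_three.dvd_of_dvd_pow h; norm_num at this
  have hm8 : m = 8 := by
    have hpow : ∀ n : ℕ, n ∣ 9 * 2 ^ a → (¬ 2 ∣ n) → n ∣ 9 := fun n hn h2 =>
      (((Nat.prime_two.coprime_iff_not_dvd.2 h2).symm).pow_right a).dvd_of_dvd_mul_right hn
    have h2or : ¬ 2 ∣ m ∨ ¬ 2 ∣ m + 1 := by omega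
    have hcases : m = 2 ∨ m = 3 ∨ m = 8 ∨ m = 9 := by
      rcases h2or with h2 | h2
      · have h9 := hpow m hC h2
        have := Nat.le_of_dvd (by norm_num) h9
        interval_cases m <;> first | omega | (exfalso; revert h9; norm_num)
      · have h9 := hpow (m + 1) (hCD ▸ hD) h2
        have := Nat.le_of_dvd (by norm_num) h9
        have : m ≤ 8 := by omega
        interval_cases m <;> first | omega | (exfalso; revert h9; norm_num)
    rcases hcases with h | h | h | h
    · refine absurd hzeq fun hq => not_sq_twentyseven (z := _) (m := 98 * 2 ^ a) ?_ (hq.symm.trans (by rw [h]; push_cast; ring))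
      intro h'
      rcases Nat.prime_three.dvd_mul.1 h' with h' | h'
      · norm_num at h'
      · exact h2a h'
    · refine absurd hzeq fun hq => not_sq_twentyseven (z := _) (m := 196 * 2 ^ a) ?_ (hq.symm.trans (by rw [h]; push_cast; ring))
      intro h'
      rcases Nat.prime_three.dvd_mul.1 h' with h' | h'
      · norm_num at h'
      · exact h2a h'
    · exact h
    · exfalso
      have h10 : (10 : ℕ) ∣ 9 * 2 ^ a := by have := hD; rwa [hCD, h] at this
      rcases (Nat.prime_five.dvd_mul).1 ((by norm_num : 5 ∣ 10).trans h10) with h5 | h5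
      · norm_num at h5
      · have := Nat.prime_five.dvd_of_dvd_pow h5; norm_num at this
  have hzne : ∀ (s : G) (w : ℤ), orderOf s = 2 → (C : G → ℂ) s = w → w ≠ 8 ∧ -8 < w ∧ w ≤ 8 := by
    intro s w hs hw
    have hb : |(w : ℝ)| ≤ 8 := by
      obtain ⟨d', ρ, hρ, hρC⟩ := C.2
      have := Char.norm_character_le ρ s
      have hd' : Module.finrank ℂ (Fin d' → ℂ) = 8 := by
        refine Nat.cast_injective (R := ℂ) ?_
        rw [← Representation.char_one ρ, hρC, Blk83.one_eq, ← hm, hm8]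
      rw [hρC, hw, Complex.norm_intCast, hd'] at this
      exact_mod_cast this
    have hb' : |w| ≤ 8 := by exact_mod_cast hb
    have hne : |w| ≠ 8 := by
      intro h8
      have : s = 1 := PrimeDeg.eq_one_of_norm_eq hna hCp (by
        rw [hw, Complex.norm_intCast, ← hm, hm8]; exact_mod_cast h8)
      rw [this, orderOf_one] at hs; norm_num at hs
    have h1' := abs_le.1 hb'
    refine ⟨fun h => hne (by rw [h]; norm_num), ?_, h1'.2⟩
    rcases lt_or_eq_of_le h1'.1 with h | h
    · exact h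
    · exact absurd (by rw [← h]; norm_num) hne
  have hall : ∀ s : G, orderOf s = 2 → IsConj s t := by
    intro s hs
    by_contra hst'
    obtain ⟨w, hw, hweq⟩ := hval s hs
    rw [if_neg hst', zero_mul, zero_mul, eq_comm, pow_eq_zero_iff two_ne_zero, mul_eq_zero] at hweq
    rcases hweq with h | h
    · have : s ∈ Finset.univ.filter (IsConj s) := Finset.mem_filter.2 ⟨Finset.mem_univ _, IsConj.refl s⟩
      exact (Finset.card_pos.2 ⟨s, this⟩).ne' (by exact_mod_cast h)
    · exact (hzne s w hs hw).1 (by rw [hm8] at h; push_cast at h; omega)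
  haveI : Fact (Nat.Prime 2) := ⟨Nat.prime_two⟩
  obtain ⟨T⟩ : Nonempty (Sylow 2 G) := inferInstance
  have hT : Nat.card (T : Subgroup G) = 2 ^ a := by
    rw [T.card_eq_multiplicity, hcard]
    congr 1
    rw [Nat.factorization_mul (by positivity) (by norm_num), Nat.factorization_mul (by norm_num) (by positivity),
      Finsupp.add_apply, Finsupp.add_apply, Nat.factorization_pow, Finsupp.smul_apply,
      Nat.prime_two.factorization_self, Nat.factorization_eq_zero_of_not_dvd (show ¬ 2 ∣ 9 by norm_num),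
      Nat.factorization_eq_zero_of_not_dvd (show ¬ 2 ∣ 7 by norm_num)]
    simp
  have ha3 : 3 ≤ a := by
    by_contra h
    rw [hcard] at ha
    interval_cases a <;> norm_num at ha
  haveI : Nontrivial (T : Subgroup G) := Finite.one_lt_card_iff_nontrivial.1
    (by rw [hT]; exact Nat.one_lt_two_pow (by omega))
  haveI := T.isPGroup'.center_nontrivial
  obtain ⟨c, hc⟩ := exists_prime_orderOf_dvd_card' 2
    (show 2 ∣ Nat.card (Subgroup.center (T : Subgroup G)) by
      obtain ⟨n, hn⟩ := (T.isPGroup'.to_subgroup (Subgroup.center (T : Subgroup G))).exists_card_eq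
      have : 1 < Nat.card (Subgroup.center (T : Subgroup G)) := Finite.one_lt_card
      rcases n with _ | n
      · rw [hn] at this; norm_num at this
      · rw [hn]; exact dvd_pow_self 2 (Nat.succ_ne_zero n))
  set s : G := ((c : (T : Subgroup G)) : G) with hs
  have hso : orderOf s = 2 := by rw [hs, Subgroup.orderOf_coe, Subgroup.orderOf_coe, hc]
  obtain ⟨w, hw, hweq⟩ := hval s hso
  rw [if_pos (hall s hso), hcard, hm8] at hweq
  set K := (Finset.univ.filter (IsConj s)).card with hK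
  have hKC : K * Nat.card (Subgroup.centralizer ({s} : Set G)) = Nat.card G := by
    rw [hK, ← Fintype.card_subtype, ← Nat.card_eq_fintype_card]
    exact Char.card_isConj_mul_card_centralizer s
  have hTC : 2 ^ a ≤ Nat.card (Subgroup.centralizer ({s} : Set G)) := by
    rw [← hT]
    refine Nat.le_of_dvd Nat.card_pos (Subgroup.card_dvd_of_le fun g hg => ?_)
    rw [Subgroup.mem_centralizer_singleton_iff]
    exact congrArg Subtype.val (Subgroup.mem_center_iff.1 c.2 ⟨g, hg⟩)
  have hKle : K ≤ 63 := by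
    rw [hcard] at hKC
    by_contra hgt
    have h64 : 64 * 2 ^ a ≤ K * Nat.card (Subgroup.centralizer ({s} : Set G)) :=
      Nat.mul_le_mul (by omega) hTC
    have : 0 < 2 ^ a := by positivity
    omega
  obtain ⟨-, hw1, hw2⟩ := hzne s w hso hw
  have hsq : (((K : ℤ) * (w - 8)) ^ 2) ≤ (63 * 16) ^ 2 := by
    have hK' : (K : ℤ) ≤ 63 := by exact_mod_cast hKle
    rw [mul_pow, mul_pow]
    refine mul_le_mul (pow_le_pow_left₀ (by positivity) hK' 2) ?_ (by positivity) (by positivity)
    exact sq_le_sq' (by linarith) (by linarith)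
  push_cast at hweq
  have hle : (2 : ℤ) ^ a ≤ 32 := by linarith
  have hle' : 2 ^ a ≤ 2 ^ 5 := by exact_mod_cast hle
  have ha5 : a ≤ 5 := (Nat.pow_le_pow_iff_right (by norm_num)).1 hle'
  interval_cases a
  · rw [hcard]; norm_num
  · norm_num at ha7
  · norm_num at ha7

end CfsgLib.PSection
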