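import Cfsg.Agent.Lib.PSection.OrderNine

/-!
# The relation in the split case
-/

set_option autoImplicit false

open scoped ComplexConjugate IsMulCommutative

namespace CfsgLib.PSection

universe u

variable {G : Type u} [Group G] [Fintype G] [IsSimpleGroup G] {P : Sylow 3 G} {k : ℕ}
  [IsMulCommutative (P : Subgroup G)] {x y : (P : Subgroup G)}

omit [IsSimpleGroup G] in
theorem mu_eq_of_isConj {u w : G} (hk : Expo P k) (hu : u ^ Nat.card (P : Subgroup G) = 1)
    (h : IsConj u w) : mu 3 u = mu 3 w := by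
  simp only [mu, regCard_centralizer_eq hk hu h, centralizer_card_eq h]

theorem Split.mu_mixed_eq (h : Split P x y) (hcard : Nat.card (P : Subgroup G) = 9) {i j : Fin 3}
    (hi : i ≠ 0) (hj : j ≠ 0) :
    mu 3 ((x ^ (i : ℕ) * y ^ (j : ℕ) : (P : Subgroup G)) : G) = 1 / 9 := by
  rw [mu_eq_inv_card P (x ^ (i : ℕ) * y ^ (j : ℕ) : (P : Subgroup G)).2 fun n hn hnu v hv =>
    conjP_eq_self hn (h.mu_mixed i j hi hj hn hnu ⟨v, hv⟩), hcard]
  norm_num

theorem Split.mu_pure (h : Split P x y) (hcard : Nat.card (P : Subgroup G) = 9) :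
    mu 3 (x : G) = 2 / 9 := by
  classical
  set H := Subgroup.centralizer ({(x : G)} : Set G) with hH
  have hle : (P : Subgroup G) ≤ H := fun v hv =>
    Subgroup.mem_centralizer_singleton_iff.2
      (congrArg Subtype.val (mul_comm' (⟨v, hv⟩ : (P : Subgroup G)) x))
  set Q := P.subtype hle with hQ
  haveI : IsMulCommutative ↥(Q : Subgroup ↥H) := ⟨⟨fun a b => Subtype.ext (Subtype.ext (by
    have h' := congrArg Subtype.val (mul_comm' (⟨((a : ↥H) : G), a.2⟩ : (P : Subgroup G))
      ⟨((b : ↥H) : G), b.2⟩)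
    exact h'))⟩⟩
  haveI := Fintype.ofFinite H
  haveI := Fintype.ofFinite ↥(Q : Subgroup ↥H)
  let e : ↥(P : Subgroup G) → ↥(Q : Subgroup ↥H) := fun u => ⟨⟨u, hle u.2⟩, u.2⟩
  have he : Function.Bijective e :=
    ⟨fun a b hab => Subtype.ext (congrArg (fun w : ↥(Q : Subgroup ↥H) => ((w : ↥H) : G)) hab),
      fun b => ⟨⟨((b : ↥H) : G), b.2⟩, rfl⟩⟩
  have hQn : ∀ {n : ↥H}, n ∈ Subgroup.normalizer ((Q : Subgroup ↥H) : Set ↥H) →
      (n : G) ∈ Subgroup.normalizer ((P : Subgroup G) : Set G) := by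
    intro n hn
    rw [Subgroup.mem_normalizer_iff] at hn ⊢
    intro z
    constructor
    · intro hz
      exact (hn ⟨z, hle hz⟩).1 hz
    · intro hz
      have hzH : z ∈ H := by simpa [mul_assoc] using mul_mem (mul_mem (inv_mem n.2) (hle hz)) n.2
      exact (hn ⟨z, hzH⟩).2 hz
  have hx3 := h.ox
  have hinvx : x ^ 2 = x⁻¹ := eq_inv_of_mul_eq_one_left (by rw [← pow_succ]; exact h.ox)
  have hinvy : y ^ 2 = y⁻¹ := eq_inv_of_mul_eq_one_left (by rw [← pow_succ]; exact h.oy)
  -- elements of `H` fix `x`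
  have hfix : ∀ {n : ↥H} (hn : n ∈ Subgroup.normalizer ((Q : Subgroup ↥H) : Set ↥H)),
      conjP (n : G) (hQn hn) x = x := fun {n} hn =>
    conjP_of_comm _ (Subgroup.mem_centralizer_singleton_iff.1 n.2)
  have hyy : ∀ {n : ↥H} (hn : n ∈ Subgroup.normalizer ((Q : Subgroup ↥H) : Set ↥H)),
      conjP (n : G) (hQn hn) y = y ∨ conjP (n : G) (hQn hn) y = y⁻¹ := fun {n} hn =>
    h.cy _ (conjP_isConj _ _ y)
  have hswap : ∃ g : ↥H, (g : G) * (y : G) * (g : G)⁻¹ = ((y⁻¹ : (P : Subgroup G)) : G) := by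
    obtain ⟨n, hn, hne⟩ := exists_normalizer_conj h.swap_y
    have e0 : conjP n hn (x * y) = x * y⁻¹ := Subtype.ext hne
    rw [map_mul] at e0
    have key : ∀ (a b : Fin 3), x ^ (a : ℕ) * y ^ (b : ℕ) = x * y⁻¹ → a = 1 ∧ b = 2 := by
      intro a b hab
      exact Prod.ext_iff.1 (h.bij.injective (a₁ := (a, b)) (a₂ := (1, 2)) (by simpa [hinvy] using hab))
    have hx' : conjP n hn x = x := by
      rcases h.cx _ (conjP_isConj n hn x) with e1 | e1
      · exact e1
      · exfalso
        rcases h.cy _ (conjP_isConj n hn y) with e2 | e2 <;> rw [e1, e2] at e0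
        · exact absurd (key 2 1 (by simpa [hinvx] using e0)).1 (by decide)
        · exact absurd (key 2 2 (by simpa [hinvx, hinvy] using e0)).1 (by decide)
    rw [hx'] at e0
    exact ⟨⟨n, Subgroup.mem_centralizer_singleton_iff.2 (conjP_eq_self hn hx')⟩,
      congrArg Subtype.val (mul_left_cancel e0)⟩
  -- the local fusion
  have hnP : ∀ i j : Fin 3, nP Q (e (x ^ (i : ℕ) * y ^ (j : ℕ)) : ↥H) = if j = 0 then 1 else 2 := by
    intro i j
    rw [nP, Nat.card_eq_fintype_card, Fintype.card_subtype]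
    have hsub : ∀ v : ↥(Q : Subgroup ↥H), IsConj (e (x ^ (i : ℕ) * y ^ (j : ℕ)) : ↥H) v →
        v = e (x ^ (i : ℕ) * y ^ (j : ℕ)) ∨ v = e (x ^ (i : ℕ) * (y⁻¹) ^ (j : ℕ)) := by
      intro v hv
      obtain ⟨n, hn, hne⟩ := exists_normalizer_conj hv
      have hval : conjP (n : G) (hQn hn) (x ^ (i : ℕ) * y ^ (j : ℕ)) = ⟨((v : ↥H) : G), v.2⟩ := by
        have h' := congrArg Subtype.val hne
        exact Subtype.ext h'
      rw [map_mul, map_pow, map_pow, hfix hn] at hval
      rcases hyy hn with e1 | e1 <;> rw [e1] at hval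
      · exact Or.inl (Subtype.ext (Subtype.ext (congrArg Subtype.val hval).symm))
      · exact Or.inr (Subtype.ext (Subtype.ext (congrArg Subtype.val hval).symm))
    by_cases hj : j = 0
    · subst hj
      rw [if_pos rfl, Finset.card_eq_one]
      refine ⟨e (x ^ (i : ℕ) * y ^ ((0 : Fin 3) : ℕ)), Finset.ext fun v => ?_⟩
      simp only [Finset.mem_filter, Finset.mem_univ, true_and, Finset.mem_singleton]
      exact ⟨fun hv => (hsub v hv).elim id fun e' => by simpa using e',
        fun hv => hv ▸ IsConj.refl _⟩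
    · rw [if_neg hj, Finset.card_eq_two]
      refine ⟨e (x ^ (i : ℕ) * y ^ (j : ℕ)), e (x ^ (i : ℕ) * (y⁻¹) ^ (j : ℕ)), fun e' => ?_,
        Finset.ext fun v => ?_⟩
      · have e'' := mul_left_cancel (he.injective e')
        have h2 : (y ^ (j : ℕ)) ^ 2 = 1 := by
          rw [pow_two]; nth_rw 2 [e'']; rw [inv_pow, mul_inv_cancel]
        have h3' : (y ^ (j : ℕ)) ^ 3 = 1 := by rw [← pow_mul, mul_comm, pow_mul, h.oy, one_pow]
        rw [pow_succ, h2, one_mul] at h3'
        exact hj (congrArg Prod.snd (h.bij.injective (a₁ := ((0 : Fin 3), j)) (a₂ := (0, 0)) (by simpa using h3')))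
      · simp only [Finset.mem_filter, Finset.mem_univ, true_and, Finset.mem_insert, Finset.mem_singleton]
        refine ⟨hsub v, ?_⟩
        rintro (rfl | rfl)
        · exact IsConj.refl _
        · obtain ⟨g, hg⟩ := hswap
          refine isConj_iff.2 ⟨g, Subtype.ext ?_⟩
          have hgx : (g : G) * (x : G) * (g : G)⁻¹ = x := by
            rw [Subgroup.mem_centralizer_singleton_iff.1 g.2]; group
          show (g : G) * ((x ^ (i : ℕ) * y ^ (j : ℕ) : (P : Subgroup G)) : G) * (g : G)⁻¹ =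
            ((x ^ (i : ℕ) * (y⁻¹) ^ (j : ℕ) : (P : Subgroup G)) : G)
          rw [Subgroup.coe_mul, Subgroup.coe_mul, SubgroupClass.coe_pow, SubgroupClass.coe_pow,
            SubgroupClass.coe_pow, ← hg, conj_pow]
          conv_rhs => rw [← hgx, conj_pow]
          group
  have hcardQ : Nat.card ↥(Q : Subgroup ↥H) = 9 := by
    rw [← Nat.card_congr (Equiv.ofBijective e he), hcard]
  have hmu : ∀ i j : Fin 3, mu 3 (e (x ^ (i : ℕ) * y ^ (j : ℕ)) : ↥H) =
      if j = 0 then mu 3 (x : G) else 1 / 9 := by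
    intro i j
    by_cases hj : j = 0
    · subst hj
      rw [if_pos rfl]
      have htop : Subgroup.centralizer
          ({(e (x ^ (i : ℕ) * y ^ ((0 : Fin 3) : ℕ)) : ↥H)} : Set ↥H) = ⊤ := by
        rw [eq_top_iff]
        intro c _
        rw [Subgroup.mem_centralizer_singleton_iff]
        refine Subtype.ext ?_
        show (c : G) * ((x ^ (i : ℕ) * y ^ ((0 : Fin 3) : ℕ) : (P : Subgroup G)) : G) =
          ((x ^ (i : ℕ) * y ^ ((0 : Fin 3) : ℕ) : (P : Subgroup G)) : G) * c
        rw [Fin.val_zero, pow_zero, mul_one, SubgroupClass.coe_pow]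
        exact (show Commute (c : G) (x : G) from Subgroup.mem_centralizer_singleton_iff.1 c.2).pow_right _
      have h1 : regCard 3 ↥(⊤ : Subgroup ↥H) = regCard 3 ↥H :=
        Nat.card_congr (Subgroup.topEquiv.toEquiv.subtypeEquiv fun c => by
          rw [← Subgroup.orderOf_coe]; rfl)
      rw [mu, htop, h1, Subgroup.card_top]
      rfl
    · rw [if_neg hj, mu_eq_inv_card Q (e (x ^ (i : ℕ) * y ^ (j : ℕ))).2 (fun n hn hnu v hv => ?_),
        hcardQ]
      · norm_num
      · have hc : conjP (n : G) (hQn hn) (x ^ (i : ℕ) * y ^ (j : ℕ)) = x ^ (i : ℕ) * y ^ (j : ℕ) :=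
          conjP_of_comm _ (congrArg Subtype.val hnu)
        rw [map_mul, map_pow, map_pow, hfix hn] at hc
        have hy' : conjP (n : G) (hQn hn) y = y := by
          refine (hyy hn).resolve_right fun e1 => ?_
          rw [e1] at hc
          have e'' := mul_left_cancel hc
          have h2 : (y ^ (j : ℕ)) ^ 2 = 1 := by
            rw [pow_two]; nth_rw 1 [← e'']; rw [inv_pow, inv_mul_cancel]
          have h3' : (y ^ (j : ℕ)) ^ 3 = 1 := by rw [← pow_mul, mul_comm, pow_mul, h.oy, one_pow]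
          rw [pow_succ, h2, one_mul] at h3'
          exact hj (congrArg Prod.snd (h.bij.injective (a₁ := ((0 : Fin 3), j)) (a₂ := (0, 0)) (by simpa using h3')))
        obtain ⟨⟨a, b⟩, hab⟩ := h.bij.surjective (⟨((v : ↥H) : G), hv⟩ : (P : Subgroup G))
        have : conjP (n : G) (hQn hn) ⟨((v : ↥H) : G), hv⟩ = ⟨((v : ↥H) : G), hv⟩ := by
          rw [← hab]; simp [hfix hn, hy']
        exact Subtype.ext (conjP_eq_self _ this)
  obtain ⟨k', hk'⟩ := exists_expo Q
  have hs := sum_pow_eq hk' (F := fun _ => (1 : ℂ)) (fun _ _ _ => rfl)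
  simp only [Finset.sum_const, Finset.card_univ, nsmul_eq_mul, mul_one, ← Nat.card_eq_fintype_card] at hs
  rw [← Fintype.sum_bijective _ (he.comp h.bij) (fun c : Fin 3 × Fin 3 =>
    mu 3 (e (x ^ (c.1 : ℕ) * y ^ (c.2 : ℕ)) : ↥H) /
      (nP Q (e (x ^ (c.1 : ℕ) * y ^ (c.2 : ℕ)) : ↥H) : ℂ)) _ (fun _ => rfl)] at hs
  simp only [hnP, hmu, Fintype.sum_prod_type, Fin.sum_univ_three] at hs
  have hne : (Nat.card ↥H : ℂ) ≠ 0 := Nat.cast_ne_zero.2 Nat.card_pos.ne'
  have h1 := mul_left_cancel₀ hne ((mul_one _).trans hs)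
  simp only [show ((1 : Fin 3) = 0) = False by simp, show ((2 : Fin 3) = 0) = False by simp,
    if_true, if_false] at h1
  push_cast at h1
  linear_combination -(1 / 3 : ℂ) * h1

set_option maxHeartbeats 1000000 in
theorem hasRel_of_split [Fintype (P : Subgroup G)] (hcard : Nat.card (P : Subgroup G) = 9)
    (hk : Expo P k) (h : Split P x y) : HasRel (P := P) k := by
  classical
  have hbij := h.bij
  have hne : ∀ (a b : Fin 3), x ^ (a : ℕ) * y ^ (b : ℕ) = 1 → a = 0 ∧ b = 0 := fun a b e =>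
    Prod.ext_iff.1 (hbij.injective (a₁ := (a, b)) (a₂ := (0, 0)) (by simpa using e))
  have hgen : ∀ {z w : (P : Subgroup G)}, Split P z w → ∃ l : (P : Subgroup G) →* ℂˣ,
      l w = 1 ∧ l ≠ 1 ∧ (∀ u, l u ^ 3 = 1) ∧
      ∀ i j : Fin 3, phi l (z ^ (i : ℕ) * w ^ (j : ℕ)) = if i = 0 then 0 else 3 := by
    intro z w hs
    have hz : z ∉ Subgroup.zpowers w := by
      refine not_mem_zpowers_of_cube hs.oy (fun e => ?_) (fun e => ?_) (fun e => ?_)
      · exact absurd (hs.bij.injective (a₁ := (1, 0)) (a₂ := (0, 0)) (by simp [e])) (by decide)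
      · exact absurd (hs.bij.injective (a₁ := (1, 0)) (a₂ := (0, 1)) (by simp [e])) (by decide)
      · exact absurd (hs.bij.injective (a₁ := (1, 0)) (a₂ := (0, 2))
          (by simp [e, eq_inv_of_mul_eq_one_left (show w ^ 2 * w = 1 by rw [← pow_succ]; exact hs.oy)]))
          (by decide)
    obtain ⟨l, hw, hl⟩ := exists_hom hz
    have hlz : l z ^ 3 = 1 := by rw [← map_pow, hs.ox, map_one]
    refine ⟨l, hw, fun e => hl (by rw [e]; rfl), fun u => ?_, fun i j => ?_⟩
    · obtain ⟨⟨a, b⟩, rfl⟩ := hs.bij.surjective u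
      rw [map_mul, map_pow, map_pow, hw, one_pow, mul_one, ← pow_mul, mul_comm, pow_mul, hlz, one_pow]
    · have hval : phi l (z ^ (i : ℕ) * w ^ (j : ℕ)) = 2 - ((l z : ℂ)) ^ (i : ℕ) - (((l z)⁻¹ : ℂˣ) : ℂ) ^ (i : ℕ) := by
        simp [phi, hw]
      have hinv : (((l z)⁻¹ : ℂˣ) : ℂ) = (l z : ℂ) ^ 2 := by
        rw [← Units.val_pow_eq_pow_val]
        exact congrArg Units.val (eq_inv_of_mul_eq_one_left (by rw [← pow_succ]; exact hlz)).symm
      set c : ℂ := (l z : ℂ) with hc
      have h3 : c ^ 3 = 1 := by rw [hc, ← Units.val_pow_eq_pow_val, hlz, Units.val_one]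
      have hc1 : c ≠ 1 := fun e => hl (Units.ext (by simpa [hc] using e))
      have hs' : 1 + c + c ^ 2 = 0 := by
        have : (c - 1) * (1 + c + c ^ 2) = 0 := by linear_combination h3
        exact (mul_eq_zero.1 this).resolve_left (sub_ne_zero.2 hc1)
      rw [hval, hinv]
      rcases ((show ∀ i : Fin 3, i = 0 ∨ i = 1 ∨ i = 2 by decide) i) with rfl | rfl | rfl
      · norm_num
      · rw [if_neg (by decide)]; push_cast [Fin.val_one]; linear_combination -hs'
      · rw [if_neg (by decide), Fin.val_two]; linear_combination -hs' - c * h3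
  obtain ⟨L, hLy, hL1, hL3, hLv⟩ := hgen h
  obtain ⟨M, hMx, hM1, hM3, hMv'⟩ := hgen h.symm
  have hMv : ∀ i j : Fin 3, phi M (x ^ (i : ℕ) * y ^ (j : ℕ)) = if j = 0 then 0 else 3 := fun i j => by
    rw [mul_comm]; exact hMv' j i
  -- stability
  have hst : ∀ {z w : (P : Subgroup G)} (l : (P : Subgroup G) →* ℂˣ), Split P z w →
      (∀ i j : Fin 3, phi l (z ^ (i : ℕ) * w ^ (j : ℕ)) = if i = 0 then 0 else 3) → Stable P (phi l) := by
    intro z w l hs hl u v huv
    obtain ⟨n, hn, he⟩ := exists_normalizer_conj huv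
    have e : conjP n hn u = v := Subtype.ext he
    obtain ⟨⟨i, j⟩, rfl⟩ := hs.bij.surjective u
    have hz2 : z ^ 2 = z⁻¹ := eq_inv_of_mul_eq_one_left (by rw [← pow_succ]; exact hs.ox)
    have hw2 : w ^ 2 = w⁻¹ := eq_inv_of_mul_eq_one_left (by rw [← pow_succ]; exact hs.oy)
    obtain ⟨a, ha, ha'⟩ : ∃ a : Fin 3, a ≠ 0 ∧ conjP n hn z = z ^ (a : ℕ) := by
      rcases hs.cx _ (conjP_isConj n hn z) with h' | h'
      · exact ⟨1, by decide, by simp [h']⟩
      · exact ⟨2, by decide, by simp [h', hz2]⟩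
    obtain ⟨b, hb, hb'⟩ : ∃ b : Fin 3, b ≠ 0 ∧ conjP n hn w = w ^ (b : ℕ) := by
      rcases hs.cy _ (conjP_isConj n hn w) with h' | h'
      · exact ⟨1, by decide, by simp [h']⟩
      · exact ⟨2, by decide, by simp [h', hw2]⟩
    simp only [map_mul, map_pow, ha', hb', ← pow_mul] at e
    rw [← e, pow_eq_pow_mod _ hs.ox, pow_eq_pow_mod ((b : ℕ) * (j : ℕ)) hs.oy, hl i j,
      hl ⟨_, Nat.mod_lt _ (by norm_num)⟩ ⟨_, Nat.mod_lt _ (by norm_num)⟩]
    have key : ∀ a i : Fin 3, a ≠ 0 → ((⟨(a : ℕ) * (i : ℕ) % 3, Nat.mod_lt _ (by norm_num)⟩ : Fin 3) = 0 ↔ i = 0) := by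
      decide
    simp only [key a i ha]
  have hsL := hst L h hLv
  have hsM := hst M h.symm hMv'
  have hsLM : Stable P (fun u => phi L u * phi M u) := fun u v huv => by
    simp only [hsL u v huv, hsM u v huv]
  -- weights
  have hw : ∀ {z w : (P : Subgroup G)}, Split P z w → ∀ i : Fin 3, i ≠ 0 →
      mu 3 ((z ^ (i : ℕ) : (P : Subgroup G)) : G) = 2 / 9 := by
    intro z w hs i hi
    rcases ((show ∀ i : Fin 3, i ≠ 0 → i = 1 ∨ i = 2 by decide) i hi) with rfl | rfl
    · rw [Fin.val_one, pow_one]; exact hs.mu_pure hcard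
    · obtain ⟨c, hc1, hc2⟩ : ∃ c : (P : Subgroup G), IsConj (z : G) c ∧ c ≠ z := by
        by_contra hh
        simp only [not_exists, not_and, not_not] at hh
        have h2 := hs.nx 1 (by decide)
        rw [Fin.val_one, pow_one] at h2
        obtain ⟨a, b, hab, -⟩ := Nat.card_eq_two_iff.1 h2
        exact hab (Subtype.ext ((hh _ a.2).trans (hh _ b.2).symm))
      have hc := (hs.cx c hc1).resolve_left hc2
      rw [Fin.val_two, show z ^ 2 = c by rw [hc]; exact eq_inv_of_mul_eq_one_left (by rw [← pow_succ]; exact hs.ox),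
        ← mu_eq_of_isConj hk (pow_card_of_mem z.2) hc1]
      exact hs.mu_pure hcard
  have hmx := hw h
  have hmy := hw h.symm
  have hinner : ∀ {φ ψ : ↥(P : Subgroup G) → ℂ}, Stable P φ → Stable P ψ → φ 1 = 0 →
      Cfsg.classInner (ext P k φ) (ext P k ψ) =
        ∑ i : Fin 3, ∑ j : Fin 3, (if i = 0 then (if j = 0 then 0 else 1 / 9) else
          (if j = 0 then 1 / 9 else 1 / 36)) *
          (φ (x ^ (i : ℕ) * y ^ (j : ℕ)) * conj (ψ (x ^ (i : ℕ) * y ^ (j : ℕ)))) := by
    intro φ ψ hφ hψ hφ1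
    rw [classInner_ext hk hφ hψ, ← Fintype.sum_prod_type']
    refine (Fintype.sum_bijective _ hbij _ _ fun c => ?_).symm
    obtain ⟨i, j⟩ := c
    by_cases hi : i = 0 <;> by_cases hj : j = 0
    · subst hi; subst hj; simp [hφ1]
    · subst hi
      simp only [Fin.val_zero, pow_zero, one_mul, if_true, if_neg hj, hmy j hj, h.ny j hj]
      push_cast; ring
    · subst hj
      simp only [Fin.val_zero, pow_zero, mul_one, if_true, if_neg hi, hmx i hi, h.nx i hi]
      push_cast; ring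
    · simp only [if_neg hi, if_neg hj, h.mu_mixed_eq hcard hi hj, h.nm i j hi hj]
      push_cast; ring
  have hgL := isGeneralizedCharacter_ext hk hsL (isGeneralizedCharacter_phi L)
  have hgM := isGeneralizedCharacter_ext hk hsM (isGeneralizedCharacter_phi M)
  have hgLM := isGeneralizedCharacter_ext hk hsLM
    (Char.IsGeneralizedCharacter.mul (isGeneralizedCharacter_phi L) (isGeneralizedCharacter_phi M))
  have h3conj : conj (3 : ℂ) = 3 := map_ofNat _ 3
  have f10 : ((1 : Fin 3) = 0) = False := by simp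
  have f20 : ((2 : Fin 3) = 0) = False := by simp
  have e1 : (fun _ : G => (1 : ℂ)) = ext P k (fun _ => 1) := funext fun g => (ext_const hk 1 g).symm
  have hLM0 : phi L 1 * phi M 1 = 0 := by rw [phi_one, zero_mul]
  have hαα : Cfsg.classInner (ext P k (phi L)) (ext P k (phi L)) = 3 := by
    rw [hinner hsL hsL (phi_one L)]
    simp only [hLv, Fin.sum_univ_three, f10, f20, if_true, if_false, h3conj, map_zero]; norm_num
  have hββ : Cfsg.classInner (ext P k (phi M)) (ext P k (phi M)) = 3 := by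
    rw [hinner hsM hsM (phi_one M)]
    simp only [hMv, Fin.sum_univ_three, f10, f20, if_true, if_false, h3conj, map_zero]; norm_num
  have hαβ : Cfsg.classInner (ext P k (phi L)) (ext P k (phi M)) = 1 := by
    rw [hinner hsL hsM (phi_one L)]
    simp only [hLv, hMv, Fin.sum_univ_three, f10, f20, if_true, if_false, h3conj, map_zero]; norm_num
  have hα1 : Cfsg.classInner (ext P k (phi L)) (fun _ => (1 : ℂ)) = 1 := by
    rw [e1, hinner hsL (stable_const 1) (phi_one L)]
    simp only [hLv, Fin.sum_univ_three, f10, f20, if_true, if_false, map_one]; norm_num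
  have hβ1 : Cfsg.classInner (ext P k (phi M)) (fun _ => (1 : ℂ)) = 1 := by
    rw [e1, hinner hsM (stable_const 1) (phi_one M)]
    simp only [hMv, Fin.sum_univ_three, f10, f20, if_true, if_false, map_one]; norm_num
  have hγγ : Cfsg.classInner (ext P k fun u => phi L u * phi M u)
      (ext P k fun u => phi L u * phi M u) = 9 := by
    rw [hinner hsLM hsLM hLM0]
    simp only [hLv, hMv, Fin.sum_univ_three, f10, f20, if_true, if_false, map_mul, h3conj, map_zero]
    norm_num
  have hαγ : Cfsg.classInner (ext P k (phi L)) (ext P k fun u => phi L u * phi M u) = 3 := by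
    rw [hinner hsL hsLM (phi_one L)]
    simp only [hLv, hMv, Fin.sum_univ_three, f10, f20, if_true, if_false, map_mul, h3conj, map_zero]
    norm_num
  have hβγ : Cfsg.classInner (ext P k (phi M)) (ext P k fun u => phi L u * phi M u) = 3 := by
    rw [hinner hsM hsLM (phi_one M)]
    simp only [hLv, hMv, Fin.sum_univ_three, f10, f20, if_true, if_false, map_mul, h3conj, map_zero]
    norm_num
  have hγ1 : Cfsg.classInner (ext P k fun u => phi L u * phi M u) (fun _ => (1 : ℂ)) = 1 := by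
    rw [e1, hinner hsLM (stable_const 1) hLM0]
    simp only [hLv, hMv, Fin.sum_univ_three, f10, f20, if_true, if_false, map_one]; norm_num
  obtain ⟨A, B, a, b, hA⟩ := exists_pr_coef hgL hαα hα1
  obtain ⟨C, D, c, d, hC⟩ := exists_pr_coef hgM hββ hβ1
  set γ := ext P k fun u => phi L u * phi M u with hγ
  have hγo : coef γ Char.principalIrr = 1 := by
    have e := classInner_eq_coef hgLM Char.principalIrr
    rw [show ((Char.principalIrr : Cfsg.IrrCharacter G) : G → ℂ) = fun _ => (1 : ℂ) from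
      funext Char.principalIrr_apply, hγ1] at e
    exact_mod_cast e.symm
  have hpr := nine_vector (γ := coef γ) hA hC (sum_coef_mul hgL hgM (n := 1) (by simpa using hαβ)) hγo
    (sum_coef_mul hgLM hgLM (n := 9) (by simpa using hγγ))
    (sum_coef_mul hgL hgLM (n := 3) (by simpa using hαγ))
    (sum_coef_mul hgM hgLM (n := 3) (by simpa using hβγ))
    (fun χ : Cfsg.IrrCharacter G => (Cfsg.charDegree (χ : G → ℂ) : ℤ))
    (by
      have e := (Blk83.one_eq (Char.principalIrr : Cfsg.IrrCharacter G)).symm.trans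
        (Char.principalIrr_apply 1)
      exact_mod_cast e)
    (fun χ => by exact_mod_cast Blk83.deg_pos χ)
    (sum_coef_mul_degree hgL (by rw [ext_one hsL, phi_one]))
    (sum_coef_mul_degree hgM (by rw [ext_one hsM, phi_one]))
    (sum_coef_mul_degree hgLM (by rw [hγ, ext_one hsLM]; exact hLM0))
  -- the product is nine times an indicator
  let X : G → Prop := fun g => γ g ≠ 0
  have hX : ∀ g x : G, X (x * g * x⁻¹) ↔ X g := fun g x => by
    simp only [X, hγ, isClassFunction_ext hk hsLM g x]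
  have hγX : ∀ g, γ g = if X g then ((9 : ℕ) : ℂ) else 0 := by
    intro g
    by_cases hg : X g
    · rw [if_pos hg]
      obtain ⟨u, hu⟩ := exists_conj_mem (pow_card_pow hk g)
      have hg' : γ g ≠ 0 := hg
      rw [hγ, ext_apply hsLM hu] at hg' ⊢
      obtain ⟨⟨i, j⟩, rfl⟩ := hbij.surjective u
      simp only [hLv, hMv] at hg' ⊢
      by_cases hi : i = 0
      · simp [hi] at hg'
      by_cases hj : j = 0
      · simp [hj] at hg'
      rw [if_neg hi, if_neg hj]; norm_num
    · rw [if_neg hg]; exact not_not.1 hg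
  have hsign : ∀ z : ℤ, z = 1 ∨ z = -1 → ¬ ((3 : ℕ) : ℤ) ∣ z := by rintro z (rfl | rfl) <;> decide
  have hdeg : ∀ χ, (coef γ χ = 1 ∨ coef γ χ = -1) → ¬ 3 ∣ Cfsg.charDegree (χ : G → ℂ) := fun χ hχ =>
    not_dvd_degree hX (n := 9) (m := (P : Subgroup G).index) Nat.prime_three (by norm_num)
      (by rw [← hcard, Subgroup.card_mul_index]) P.not_dvd_index hgLM hγX (hsign _ hχ)
  rcases hpr with ⟨h1, h2⟩ | ⟨h1, h2⟩
  · exact ⟨A, B, a, b, L, hA.hA, hA.hB, hA.hne, hA.he, hA.hf, hL1, hL3, hsL, hA.apply_eq hgL,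
      hdeg A (by rw [h1]; exact hA.he), hdeg B (by rw [h2]; exact hA.hf)⟩
  · exact ⟨C, D, c, d, M, hC.hA, hC.hB, hC.hne, hC.he, hC.hf, hM1, hM3, hsM, hC.apply_eq hgM,
      hdeg C (by rw [h1]; exact hC.he), hdeg D (by rw [h2]; exact hC.hf)⟩

theorem exists_hasRel [Fintype (P : Subgroup G)] (hG : ¬ IsMulCommutative G)
    (hcard : Nat.card (P : Subgroup G) = 9) (hk : Expo P k)
    (h3 : 3 ≤ Nat.card {C : ConjClasses G // ∃ g ∈ C.carrier, g ≠ 1 ∧ orderOf g ∣ 9}) :
    HasRel (P := P) k := by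
  rcases invFusion_or_split hG hcard h3 with h | ⟨x, y, h⟩
  · exact hasRel_of_invFusion hcard hk h
  · exact hasRel_of_split hcard hk h

end CfsgLib.PSection
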